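import Cfsg.Agent.Lib.Hayden.Dict

/-!
The coordinates at an element of order three, remembering the elementary abelian subgroup they were built from.
-/

set_option autoImplicit false
set_option maxRecDepth 20000

namespace Cfsg.Agent.Co2Three.Quot

open Cfsg.Agent.PermCert Cfsg.Agent.HeisSLThree Cfsg.Agent.Hayden

/-- Coordinates exist, with the given subgroup as the abelian maximal subgroup. -/
theorem exists_cfg_at {G : Type*} [Group G] [Finite G]
    (a : G) (ha : orderOf a = 3) (C : Subgroup G) (hC : C = Subgroup.centralizer ({a} : Set G))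
    (hR : Cfsg.IsExtraspecial 3 (Cfsg.pCore 3 C)) (hRcard : Nat.card (Cfsg.pCore 3 C) = 27)
    (hRexp : ∀ r ∈ Cfsg.pCore 3 C, r ^ 3 = 1)
    (e : C ⧸ Cfsg.pCore 3 C ≃* SL₂)
    (J : Subgroup G) (hJC : J ≤ C) (hJcomm : IsMulCommutative J) (hJexp : ∀ j ∈ J, j ^ 3 = 1)
    (hJcard : Nat.card J = 27)
    (hJsig : ∀ K : Subgroup G, (Nat.card K).Coprime 3 →
      (∀ j ∈ J, K.map (MulAut.conj j).toMonoidHom = K) → K = ⊥) :
    ∃ el : ℕ → G, Cfg el ∧ (el 9 = a ∨ el 9 = a⁻¹) ∧ ∀ j ∈ J, ∃ v < 27, el (vi v) = j := by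
  classical
  haveI : Fact (Nat.Prime 3) := ⟨Nat.prime_three⟩
  haveI : Fact (Nat.Prime 2) := ⟨Nat.prime_two⟩
  haveI : (Cfsg.pCore 2 C).Normal := Cfsg.Agent.FiniteGroup.pCore_normal 2
  have hO2 : Cfsg.pCore 2 C = ⊥ := by
    have h := hJsig ((Cfsg.pCore 2 C).map C.subtype) ?_ ?_
    · exact (Subgroup.map_eq_bot_iff_of_injective _ C.subtype_injective).1 h
    · rw [Subgroup.card_map_of_injective C.subtype_injective]
      obtain ⟨k, hk⟩ := (Cfsg.Agent.FiniteGroup.pCore_isPGroup 2 (G := C)).exists_card_eq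
      rw [hk]
      exact Nat.Coprime.pow_left _ (by norm_num)
    · intro j hj
      apply le_antisymm
      · rintro _ ⟨_, ⟨x, hx, rfl⟩, rfl⟩
        exact ⟨_, Subgroup.Normal.conj_mem inferInstance x hx ⟨j, hJC hj⟩, rfl⟩
      · rintro _ ⟨x, hx, rfl⟩
        refine ⟨_, ⟨_, Subgroup.Normal.conj_mem inferInstance x hx (⟨j, hJC hj⟩ : C)⁻¹, rfl⟩, ?_⟩
        show j * (j⁻¹ * (x : G) * j⁻¹⁻¹) * j⁻¹ = x
        group
  have hE : ∃ E : Subgroup C, IsMulCommutative E ∧ (∀ b ∈ E, b ^ 3 = 1) ∧ Nat.card E = 27 :=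
    ⟨J.subgroupOf C, ⟨⟨fun x y => Subtype.ext (Subtype.ext (congrArg Subtype.val
        (hJcomm.is_comm.comm (⟨x.1.1, x.2⟩ : J) ⟨y.1.1, y.2⟩) :))⟩⟩,
      fun b hb => Subtype.ext (hJexp b hb),
      (Nat.card_congr (Subgroup.subgroupOfEquivOfLe hJC).toEquiv).trans hJcard⟩
  obtain ⟨φ⟩ := exists_equiv hR hRcard hRexp e hO2 hE
  let el₀ : ℕ → G := fun i => (φ (md i) : G)
  have hmul₀ : ∀ i < 648, ∀ j < 648, el₀ i * el₀ j = el₀ (T i j) := fun i hi j hj => by
    simp only [el₀, ← md_mul hi hj, map_mul, Subgroup.coe_mul]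
  have hinj₀ : ∀ i < 648, ∀ j < 648, el₀ i = el₀ j → i = j := fun i hi j hj h =>
    md_inj hi hj (φ.injective (Subtype.ext h))
  have hC₀ : ∀ g, g ∈ C ↔ ∃ i < 648, el₀ i = g := fun g => by
    constructor
    · intro hg
      obtain ⟨i, hi, hie⟩ := md_surj (φ.symm ⟨g, hg⟩)
      exact ⟨i, hi, by simp only [el₀, hie, φ.apply_symm_apply]⟩
    · rintro ⟨i, -, rfl⟩; exact (φ (md i)).2
  -- the element
  have haC : a ∈ C := hC ▸ Subgroup.mem_centralizer_singleton_iff.2 rfl
  obtain ⟨ia, hia, hiae⟩ := (hC₀ a).1 haC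
  have hcen : ∀ j < 648, T ia j = T j ia := fun j hj => hinj₀ _ (T_lt hia hj) _ (T_lt hj hia) (by
    rw [← hmul₀ ia hia j hj, ← hmul₀ j hj ia hia, hiae]
    exact (Subgroup.mem_centralizer_singleton_iff.1 (hC ▸ (hC₀ _).2 ⟨j, hj, rfl⟩)).symm)
  have ha9 : el₀ 9 = a ∨ el₀ 9 = a⁻¹ := by
    rcases chk_centre ia hia (hcen 27 (by norm_num)) (hcen 1 (by norm_num)) (hcen 3 (by norm_num))
      (hcen 162 (by norm_num)) with rfl | rfl | rfl
    · exfalso
      have : a = 1 := by rw [← hiae]; simp only [el₀, md_zero, map_one, Subgroup.coe_one]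
      rw [this, orderOf_one] at ha
      norm_num at ha
    · exact Or.inl hiae
    · refine Or.inr (eq_inv_of_mul_eq_one_left ?_)
      rw [← hiae, hmul₀ 9 (by norm_num) 18 (by norm_num), show T 9 18 = 0 by decide +kernel]
      simp only [el₀, md_zero, map_one, Subgroup.coe_one]
  -- move the subgroup into the standard position
  let S₀ : Subgroup G :=
    { carrier := {g | ∃ i < 81, el₀ i = g}
      one_mem' := ⟨0, by norm_num, by simp only [el₀, md_zero, map_one, Subgroup.coe_one]⟩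
      mul_mem' := by
        rintro _ _ ⟨i, hi, rfl⟩ ⟨j, hj, rfl⟩
        exact ⟨T i j, chk_S81 i hi j hj, (hmul₀ i (by omega) j (by omega)).symm⟩
      inv_mem' := by
        rintro _ ⟨i, hi, rfl⟩
        refine ⟨iv i, chk_iv81 i hi, eq_inv_of_mul_eq_one_left ?_⟩
        rw [hmul₀ _ (by have := chk_iv81 i hi; omega) i (by omega), (chk_iv i (by omega)).2.1]
        simp only [el₀, md_zero, map_one, Subgroup.coe_one] }
  have hS₀C : S₀ ≤ C := fun g ⟨i, hi, h⟩ => (hC₀ g).2 ⟨i, by omega, h⟩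
  have hS₀c : Nat.card S₀ = 3 ^ 4 := by
    rw [← Nat.card_congr (Equiv.ofBijective (fun i : Fin 81 => (⟨el₀ i, i, i.2, rfl⟩ : S₀))
      ⟨fun x y h => Fin.ext (hinj₀ _ (by omega) _ (by omega) (congrArg Subtype.val h :)),
        fun ⟨g, i, hi, h⟩ => ⟨⟨i, hi⟩, Subtype.ext h⟩⟩), Nat.card_fin]
    norm_num
  have hCcard : Nat.card C = 648 := by rw [← Nat.card_congr φ.toEquiv, card_mod]
  obtain ⟨Q, hQ⟩ := (IsPGroup.of_card (n := 3) (show Nat.card (J.subgroupOf C) = 3 ^ 3 by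
    rw [Nat.card_congr (Subgroup.subgroupOfEquivOfLe hJC).toEquiv, hJcard]; norm_num)).exists_le_sylow
  have hP₀ : Nat.card (S₀.subgroupOf C) = 3 ^ 4 := by
    rw [Nat.card_congr (Subgroup.subgroupOfEquivOfLe hS₀C).toEquiv, hS₀c]
  obtain ⟨P, hP⟩ := (IsPGroup.of_card hP₀).exists_le_sylow
  have hPe : (P : Subgroup C) = S₀.subgroupOf C := by
    refine (Subgroup.eq_of_le_of_card_ge hP ?_).symm
    obtain ⟨m, hm⟩ := P.isPGroup'.exists_card_eq
    rw [hm, hP₀]
    refine Nat.pow_le_pow_right (by norm_num) (le_of_not_gt fun hlt => ?_)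
    have := (pow_dvd_pow 3 hlt).trans (hm ▸ Subgroup.card_subgroup_dvd_card (P : Subgroup C))
    rw [hCcard] at this
    norm_num at this
  obtain ⟨c, hc⟩ := MulAction.exists_smul_eq C Q P
  have hcJ : ∀ j ∈ J, ∃ i < 81, el₀ i = (c : G) * j * (c : G)⁻¹ := fun j hj => by
    have h := Subgroup.smul_mem_pointwise_smul _ (MulAut.conj c) _
      (hQ (show (⟨j, hJC hj⟩ : C) ∈ J.subgroupOf C from hj))
    have h' : MulAut.conj c • (⟨j, hJC hj⟩ : C) ∈ (P : Subgroup C) := hc ▸ h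
    rw [hPe, Subgroup.mem_subgroupOf, MulAut.smul_def, MulAut.conj_apply] at h'
    obtain ⟨i, hi, hie⟩ := h'
    exact ⟨i, hi, hie⟩
  choose f hf81 hfe using hcJ
  have hfT : ∀ x (hx : x ∈ J) y (hy : y ∈ J), f (x * y) (mul_mem hx hy) = T (f x hx) (f y hy) :=
    fun x hx y hy => hinj₀ _ (by have := hf81 _ (mul_mem hx hy); omega) _
      (T_lt (by have := hf81 x hx; omega) (by have := hf81 y hy; omega)) (by
      rw [hfe, ← hmul₀ _ (by have := hf81 x hx; omega) _ (by have := hf81 y hy; omega), hfe, hfe]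
      group)
  have hfinj : ∀ x (hx : x ∈ J) y (hy : y ∈ J), f x hx = f y hy → x = y := fun x hx y hy h => by
    have h' : (c : G) * x * (c : G)⁻¹ = (c : G) * y * (c : G)⁻¹ := by rw [← hfe x hx, ← hfe y hy, h]
    exact mul_left_cancel (mul_right_cancel h')
  -- the image lies in the abelian maximal subgroup
  have hfJ : ∀ x (hx : x ∈ J), f x hx % 9 < 3 := by
    by_contra hne
    push Not at hne
    obtain ⟨x, hx, hx9⟩ := hne
    have hin : ∀ y (hy : y ∈ J), f y hy % 9 < 3 ∨ f y hy < 27 := fun y hy => by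
      refine chk_three_S _ (hf81 y hy) ?_
      rw [← hfT y hy y hy, ← hfT _ (mul_mem hy hy) y hy]
      refine hinj₀ _ (by have := hf81 _ (mul_mem (mul_mem hy hy) hy); omega) _ (by norm_num) ?_
      rw [hfe, show y * y * y = 1 by rw [← pow_three']; exact hJexp y hy]
      simp only [el₀, md_zero, map_one, Subgroup.coe_one]
      group
    by_cases hall : ∀ y (hy : y ∈ J), f y hy < 27
    · -- it would be the Heisenberg group
      have hbij : Function.Bijective (fun y : J => (⟨f y y.2, hall y y.2⟩ : Fin 27)) :=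
        (Nat.bijective_iff_injective_and_card _).2 ⟨fun y y' h => Subtype.ext
          (hfinj _ y.2 _ y'.2 (congrArg Fin.val h)), by rw [hJcard, Nat.card_fin]⟩
      obtain ⟨y1, hy1⟩ := hbij.2 1
      obtain ⟨y3, hy3⟩ := hbij.2 3
      refine chk_nonabelian ?_
      have e1 : f y1 y1.2 = 1 := congrArg Fin.val hy1
      have e3 : f y3 y3.2 = 3 := congrArg Fin.val hy3
      conv_lhs => rw [← e1, ← e3]
      conv_rhs => rw [← e1, ← e3]
      rw [← hfT, ← hfT]
      have : (y1 : G) * y3 = y3 * y1 := congrArg Subtype.val (hJcomm.is_comm.comm y1 y3)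
      simp only [this]
    · push Not at hall
      obtain ⟨y, hy, hy27⟩ := hall
      have hy9 := (hin y hy).resolve_right (by omega)
      have hxy := chk_mixed _ (hf81 x hx) _ (hf81 y hy) (by omega) ((hin x hx).resolve_left (by omega)) (by omega) hy9
      rw [← hfT x hx y hy] at hxy
      exact (hin _ (mul_mem hx hy)).elim hxy.1 hxy.2
  refine ⟨fun i => (c : G)⁻¹ * el₀ i * c, ⟨fun g => ?_, fun i hi j hj h => ?_, fun i hi j hj => ?_, ?_⟩, ?_, fun j hj => ?_⟩
  · have h9 : (c : G)⁻¹ * el₀ 9 * c = el₀ 9 := by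
      have hca : (c : G) * a = a * c := Subgroup.mem_centralizer_singleton_iff.1 (hC ▸ c.2)
      have hc9 : Commute (c : G) (el₀ 9) := by
        rcases ha9 with h | h <;> rw [h]
        · exact hca
        · exact Commute.inv_right hca
      rw [mul_assoc, ← hc9.eq, inv_mul_cancel_left]
    rw [h9]
    have hiff : g * el₀ 9 = el₀ 9 * g ↔ g ∈ C := by
      rw [hC, Subgroup.mem_centralizer_singleton_iff]
      rcases ha9 with h | h <;> rw [h]
      exact ⟨fun hh => by simpa using (Commute.inv_right (show Commute g a⁻¹ from hh)).eq,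
        fun hh => (Commute.inv_right (show Commute g a from hh)).eq⟩
    rw [hiff]
    constructor
    · intro hg
      obtain ⟨i, hi, hie⟩ := (hC₀ _).1 (mul_mem (mul_mem c.2 hg) (inv_mem c.2))
      exact ⟨i, hi, by rw [hie]; group⟩
    · rintro ⟨i, hi, rfl⟩
      exact mul_mem (mul_mem (inv_mem c.2) ((hC₀ _).2 ⟨i, hi, rfl⟩)) c.2
  · exact hinj₀ i hi j hj (mul_left_cancel (mul_right_cancel h))
  · simp only [← hmul₀ i hi j hj]; group
  · intro K hK hn
    refine hJsig K hK fun j hj => ?_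
    obtain ⟨v, hv, hve⟩ := (chk_j_mem _ (hf81 j hj)).1 (hfJ j hj)
    have h := hn v hv
    rwa [hve, hfe j hj, show (c : G)⁻¹ * ((c : G) * j * (c : G)⁻¹) * c = j by group] at h
  · have hca : (c : G) * a = a * c := Subgroup.mem_centralizer_singleton_iff.1 (hC ▸ c.2)
    rcases ha9 with h | h
    · left
      show (c : G)⁻¹ * el₀ 9 * c = a
      rw [h, mul_assoc, ← hca, inv_mul_cancel_left]
    · right
      show (c : G)⁻¹ * el₀ 9 * c = a⁻¹
      rw [h, mul_assoc, ← (Commute.inv_right (show Commute (c : G) a from hca)).eq, inv_mul_cancel_left]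
  · obtain ⟨v, hv, hve⟩ := (chk_j_mem _ (hf81 j hj)).1 (hfJ j hj)
    refine ⟨v, hv, ?_⟩
    show (c : G)⁻¹ * el₀ (vi v) * c = j
    rw [hve, hfe j hj]; group

end Cfsg.Agent.Co2Three.Quot
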