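import Cfsg.Agent.Lib.Co2Three.Quot.Lift
import Cfsg.Agent.Lib.Co2Three.Quot.Dict
import Cfsg.Agent.Lib.Fusion.SmallCentreOdd
import Cfsg.Agent.Lib.Co2Recog.Start

/-!
Modulo `W`, the centraliser of the central point in the normaliser is an extension of an extraspecial group of
order 27 by `SL(2,3)`, and the plane has no signaliser: the configuration of Hayden.
-/

set_option autoImplicit false
set_option maxRecDepth 20000
set_option synthInstance.maxSize 10000
set_option linter.style.haveILetI false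

namespace Cfsg.Agent.Co2Three.Quot

open Subgroup
open scoped commutatorElement

variable {G : Type*} [Group G]

/-- The normaliser of `W` in the centraliser of `t`. -/
abbrev NW (t : G) (W : Subgroup G) : Subgroup G := normalizer (W : Set G) ⊓ centralizer ({t} : Set G)

theorem normal_subgroupOf (t : G) (W : Subgroup G) : (W.subgroupOf (NW t W)).Normal :=
  ⟨fun n hn g => (mem_normalizer_iff.1 g.2.1 (n : G)).1 hn⟩

/-- The quotient of the normaliser by `W`. -/
abbrev Gb (t : G) (W : Subgroup G) : Type _ := ↥(NW t W) ⧸ W.subgroupOf (NW t W)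

instance (t : G) (W : Subgroup G) : (W.subgroupOf (NW t W)).Normal := normal_subgroupOf t W

/-- The projection. -/
abbrev bar (t : G) (W : Subgroup G) : ↥(NW t W) →* Gb t W := QuotientGroup.mk' _

theorem bar_eq_one {t : G} {W : Subgroup G} (x : ↥(NW t W)) : bar t W x = 1 ↔ (x : G) ∈ W :=
  QuotientGroup.eq_one_iff x

theorem bar_eq {t : G} {W : Subgroup G} {x y : ↥(NW t W)} : bar t W x = bar t W y ↔ (x : G)⁻¹ * y ∈ W :=
  QuotientGroup.eq

open scoped Classical in
/-- The image of a point. -/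
noncomputable def elb [Finite G] (L : Loc G) (W : Subgroup G) (v : V4) : Gb L.t W :=
  if h : L.el v ∈ NW L.t W then bar L.t W ⟨L.el v, h⟩ else 1

theorem e0_ne : e0 ≠ 0 := by decide

theorem e0_three : e0 + e0 + e0 = 0 := by decide

theorem card_plane : Nat.card {v : V4 // v 1 = 0} = 27 := by
  rw [Nat.card_eq_fintype_card]
  decide +kernel

theorem chk_sl : ∀ n : Matrix.SpecialLinearGroup (Fin 2) (ZMod 3), n ^ 3 = 1 → n ≠ 1 →
    ∃ g, g * n * g⁻¹ * n ≠ n * (g * n * g⁻¹) := by decide +kernel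

/-- The largest normal 3-subgroup of an extension of a 3-group by `SL(2,3)`. -/
theorem pCore_of_hom {X : Type*} [Group X] [Finite X] (f : X →* Matrix.SpecialLinearGroup (Fin 2) (ZMod 3))
    (hf : Function.Surjective f) (hk : IsPGroup 3 f.ker) : Cfsg.pCore 3 X = f.ker := by
  haveI : Fact (Nat.Prime 3) := ⟨Nat.prime_three⟩
  refine le_antisymm (fun x hx => ?_) (le_sSup ⟨inferInstance, hk⟩)
  have hn : (Cfsg.pCore 3 X).Normal := Cfsg.Agent.FiniteGroup.pCore_normal 3
  set N := (Cfsg.pCore 3 X).map f with hN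
  haveI hNn : N.Normal := hn.map f hf
  have hp : IsPGroup 3 N := (Cfsg.Agent.FiniteGroup.pCore_isPGroup 3 (G := X)).map f
  obtain ⟨i, hi⟩ := IsPGroup.iff_card.1 hp
  have hd : Nat.card N ∣ 24 := by
    have := N.card_subgroup_dvd_card
    rwa [Cfsg.Agent.HeisSLThree.card_sl] at this
  have hle : Nat.card N ≤ 3 := by
    rw [hi] at hd ⊢
    rcases (by omega : i ≤ 1 ∨ 2 ≤ i) with h | h
    · exact (Nat.pow_le_pow_right (by norm_num) h).trans (by norm_num)
    · exact absurd ((pow_dvd_pow 3 h).trans hd) (by norm_num)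
  by_contra hne
  have hn1 : f x ≠ 1 := fun h => hne (MonoidHom.mem_ker.2 h)
  have hc : Nat.card N = 3 := by
    have h1 : N ≠ ⊥ := fun h => hn1 (mem_bot.1 (h ▸ mem_map_of_mem f hx))
    have h2 : Nat.card N ≠ 1 := fun h => h1 (card_eq_one.1 h)
    rw [hi] at h2 hle ⊢
    rcases i with _ | _ | i
    · norm_num at h2
    · rfl
    · exfalso
      have : 3 ^ 2 ≤ 3 ^ (i + 1 + 1) := Nat.pow_le_pow_right (by norm_num) (by omega)
      omega
  have h3 : f x ^ 3 = 1 := by
    have := congrArg Subtype.val (pow_card_eq_one' (x := (⟨f x, mem_map_of_mem f hx⟩ : N)))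
    rwa [hc] at this
  obtain ⟨g, hg⟩ := chk_sl (f x) h3 hn1
  haveI : IsCyclic N := isCyclic_of_prime_card hc
  letI := IsCyclic.commGroup (α := N)
  exact hg (congrArg Subtype.val (mul_comm (⟨g * f x * g⁻¹, hNn.conj_mem _ (mem_map_of_mem f hx) g⟩ : N)
    ⟨f x, mem_map_of_mem f hx⟩))

variable [Finite G] {L : Loc G}

/-- The part of the core fixed by `t` is extraspecial. -/
theorem R_extra : Cfsg.IsExtraspecial 3 ↥(L.Q ⊓ centralizer {L.t}) := by
  haveI : Fact (Nat.Prime 3) := ⟨Nat.prime_three⟩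
  set R := L.Q ⊓ centralizer {L.t} with hR
  have htz : L.t ∈ centralizer ({L.el e0} : Set G) := (L.P_le L.t_mem).1
  have ti : L.t⁻¹ = L.t := inv_eq_of_mul_eq_one_right L.t_sq
  have hcomm : ∀ x ∈ L.Q, ∀ y ∈ L.Q, x * y * x⁻¹ * y⁻¹ ∈ zpowers (L.el e0) := by
    intro x hx y hy
    refine (L.Q_centre _ (mul_mem (mul_mem (mul_mem hx hy) (inv_mem hx)) (inv_mem hy))).1 fun q hq => ?_
    have h : ⁅(⟨x, hx⟩ : L.Q), ⟨y, hy⟩⁆ ∈ center L.Q :=
      L.Q_extra.1.2.2 ▸ commutator_mem_commutator (mem_top _) (mem_top _)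
    exact (congrArg Subtype.val (mem_center_iff.1 h ⟨q, hq⟩)).symm
  have hcent : ∀ x ∈ R, (∀ y ∈ R, x * y = y * x) → x ∈ zpowers (L.el e0) := by
    intro x hx hc
    refine (L.Q_centre x hx.1).1 fun q hq => ?_
    set d := q⁻¹ * (L.t * q * L.t⁻¹) with hd
    have hdQ : d ∈ L.Q := mul_mem (inv_mem hq) (L.Q_norm _ htz q hq)
    have hdt : L.t * d * L.t⁻¹ = d⁻¹ := by
      rw [hd, ti]
      calc L.t * (q⁻¹ * (L.t * q * L.t)) * L.t
          = L.t * q⁻¹ * L.t * q * (L.t * L.t) := by group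
        _ = (L.t * q⁻¹ * L.t⁻¹) * q := by rw [L.t_sq, mul_one, ti]
        _ = (q⁻¹ * (L.t * q * L.t⁻¹))⁻¹ := by group
        _ = _ := by rw [ti]
    have d3 : d * d * d = 1 := by rw [← pow_three']; exact L.Q_exp d hdQ
    have hqd : q * (d * d) ∈ R := by
      refine ⟨mul_mem hq (mul_mem hdQ hdQ), mem_centralizer_singleton_iff.2 (mul_inv_eq_iff_eq_mul.1 ?_).symm⟩
      calc L.t * (q * (d * d)) * L.t⁻¹ = (L.t * q * L.t⁻¹) * (L.t * d * L.t⁻¹) * (L.t * d * L.t⁻¹) := by group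
        _ = q * d * d⁻¹ * d⁻¹ := by rw [hdt, hd]; group
        _ = q * d⁻¹ := by group
        _ = q * (d * d) := by rw [inv_eq_of_mul_eq_one_left d3]
    have hxd : x * d = d * x := by
      obtain ⟨k, hk⟩ := hcomm x hx.1 d hdQ
      set z := x * d * x⁻¹ * d⁻¹ with hz
      have htx : L.t * x * L.t⁻¹ = x := mul_inv_eq_iff_eq_mul.2 (mem_centralizer_singleton_iff.1 hx.2).symm
      have htk : L.t * z * L.t⁻¹ = z := by
        refine mul_inv_eq_iff_eq_mul.2 ?_
        rw [← hk]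
        exact ((show Commute L.t (L.el e0) from mem_centralizer_singleton_iff.1 htz).zpow_right k).eq
      have h1 : x * d⁻¹ * x⁻¹ = z * d⁻¹ := by
        calc x * d⁻¹ * x⁻¹ = x * (L.t * d * L.t⁻¹) * x⁻¹ := by rw [hdt]
          _ = (L.t * x * L.t⁻¹) * (L.t * d * L.t⁻¹) * (L.t * x * L.t⁻¹)⁻¹ := by rw [htx]
          _ = (L.t * z * L.t⁻¹) * (L.t * d * L.t⁻¹) := by rw [hz]; group
          _ = z * d⁻¹ := by rw [htk, hdt]
      have hzd : Commute z d := by
        have hzc : z ∈ L.Q := mul_mem (mul_mem (mul_mem hx.1 hdQ) (inv_mem hx.1)) (inv_mem hdQ)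
        exact (L.Q_centre z hzc).2 ⟨k, hk⟩ d hdQ
      have h2 : x * d⁻¹ * x⁻¹ = z⁻¹ * d⁻¹ := by
        have e : x * d⁻¹ * x⁻¹ = (z * d)⁻¹ := by rw [hz]; group
        rw [e, hzd.eq, mul_inv_rev]
      have hzi : z⁻¹ = z := mul_right_cancel (h2.symm.trans h1)
      have hz3 : z ^ 3 = 1 := L.Q_exp z (mul_mem (mul_mem (mul_mem hx.1 hdQ) (inv_mem hx.1)) (inv_mem hdQ))
      have hz1 : z = 1 := by
        rw [pow_three', mul_eq_one_iff_eq_inv.2 hzi.symm, one_mul] at hz3
        exact hz3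
      rw [hz, mul_inv_eq_one, mul_inv_eq_iff_eq_mul] at hz1
      exact hz1
    have h := hc _ hqd
    have hcd : Commute x (d * d) := (show Commute x d from hxd).mul_right hxd
    calc x * q = x * (q * (d * d)) * (d * d)⁻¹ := by group
      _ = q * (d * d) * (x * (d * d)⁻¹) := by rw [h, mul_assoc]
      _ = q * (d * d) * ((d * d)⁻¹ * x) := by rw [hcd.inv_right.eq]
      _ = q * x := by group
  have hne : ∃ a b : R, a * b ≠ b * a := by
    by_contra! hab
    have hle : R ≤ zpowers (L.el e0) := fun x hx =>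
      hcent x hx fun y hy => congrArg Subtype.val (hab ⟨x, hx⟩ ⟨y, hy⟩)
    have h := card_le_of_le hle
    rw [Nat.card_zpowers, orderOf_el L e0_ne, L.cQt_card] at h
    norm_num at h
  have hA : IsPGroup 3 R := IsPGroup.of_card (n := 3) (by rw [L.cQt_card]; norm_num)
  haveI : Nontrivial R := Finite.one_lt_card_iff_nontrivial.1 (by rw [L.cQt_card]; norm_num)
  obtain ⟨a, b, hab⟩ := hne
  refine FusionSys.isExtraspecial_of_card_cube hA (by rw [L.cQt_card]; norm_num) ?_ fun x y => ?_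
  · have hz : (center R).map R.subtype = zpowers (L.el e0) := by
      refine le_antisymm ?_ (zpowers_le.2 ?_)
      · rintro _ ⟨x, hx, rfl⟩
        exact hcent x x.2 fun y hy => (congrArg Subtype.val (mem_center_iff.1 hx ⟨y, hy⟩)).symm
      · refine ⟨⟨L.el e0, (L.Q_J e0).2 rfl, el_cent rfl⟩, mem_center_iff.2 fun y => Subtype.ext ?_, rfl⟩
        exact mem_centralizer_singleton_iff.1 (L.Q_le y.2.1)
    rw [← card_map_of_injective R.subtype_injective, hz, Nat.card_zpowers, orderOf_el L e0_ne]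
  · refine mem_center_iff.2 fun q => Subtype.ext ?_
    obtain ⟨k, hk⟩ := hcomm x x.2.1 y y.2.1
    have h : ((x : G) * y * (x : G)⁻¹ * (y : G)⁻¹) * q = q * ((x : G) * y * (x : G)⁻¹ * (y : G)⁻¹) := by
      rw [← hk]
      exact ((show Commute (L.el e0) q from (mem_centralizer_singleton_iff.1 (L.Q_le q.2.1)).symm).zpow_left k).eq
    exact h.symm

variable {W : Subgroup G} (M : Mid L W)
include M

theorem W_le : W ≤ NW L.t W := le_inf le_normalizer M.le

theorem coprime_W : (Nat.card W).Coprime 3 := by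
  rw [M.card]
  norm_num

theorem elb_eq {v : V4} (h : v 1 = 0) : elb L W v = bar L.t W ⟨L.el v, el_mem M h⟩ := dif_pos (el_mem M h)

theorem elb_add {u v : V4} (hu : u 1 = 0) (hv : v 1 = 0) : elb L W (u + v) = elb L W u * elb L W v := by
  rw [elb_eq M hu, elb_eq M hv, elb_eq M (show (u + v) 1 = 0 by simp [hu, hv]), ← map_mul]
  exact congrArg _ (Subtype.ext (L.el_add u v))

theorem eq_zero_of_mem {v : V4} (h : L.el v ∈ W) : v = 0 := by
  refine L.el_inj (Eq.trans ?_ (el_zero L).symm)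
  rw [← orderOf_eq_one_iff]
  refine Nat.eq_one_of_dvd_coprimes (coprime_W M) ?_ (orderOf_dvd_of_pow_eq_one (el_pow3 L v))
  rw [← orderOf_mk _ h]
  exact orderOf_dvd_natCard _

theorem elb_inj {u v : V4} (hu : u 1 = 0) (hv : v 1 = 0) (h : elb L W u = elb L W v) : u = v := by
  rw [elb_eq M hu, elb_eq M hv, bar_eq] at h
  have h' : L.el (-u + v) ∈ W := by rw [L.el_add, el_neg]; exact h
  exact (neg_add_eq_zero.1 (eq_zero_of_mem M h'))

theorem elb_zero : elb L W 0 = 1 := by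
  rw [elb_eq M (v := 0) rfl, bar_eq_one]
  show L.el 0 ∈ W
  rw [el_zero]
  exact one_mem W

/-- Conjugate images come from conjugate points. -/
theorem conj_lift {u v : V4} (hu : u 1 = 0) (hv : v 1 = 0) (hu0 : u ≠ 0) (x : ↥(NW L.t W))
    (h : bar L.t W x * elb L W u * (bar L.t W x)⁻¹ = elb L W v) :
    ∃ w ∈ W, (w * x) * L.el u * (w * x)⁻¹ = L.el v := by
  have hv0 : v ≠ 0 := by
    rintro rfl
    rw [elb_zero M, conj_eq_one_iff, ← elb_zero M] at h
    exact hu0 (elb_inj M hu rfl h)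
  have ha : orderOf ((x : G) * L.el u * (x : G)⁻¹) = 3 := by
    rw [show (x : G) * L.el u * (x : G)⁻¹ = MulAut.conj (x : G) (L.el u) from rfl, MulEquiv.orderOf_eq,
      orderOf_el L hu0]
  rw [elb_eq M hu, elb_eq M hv, ← map_mul, ← map_inv, ← map_mul, bar_eq] at h
  obtain ⟨w, hw, hwe⟩ := exists_conj_of_mod (coprime_W M) ha (orderOf_el L hv0)
    (mul_mem (mul_mem x.2.1 (el_mem M hu).1) (inv_mem x.2.1)) h
  exact ⟨w, hw, by rw [← hwe]; group⟩

/-- An element centralising an image comes from the centraliser. -/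
theorem cent_lift {u : V4} (hu : u 1 = 0) (hu0 : u ≠ 0) {g : Gb L.t W}
    (hg : g * elb L W u = elb L W u * g) : ∃ x : ↥(NW L.t W), Commute (x : G) (L.el u) ∧ bar L.t W x = g := by
  obtain ⟨x, rfl⟩ := QuotientGroup.mk'_surjective _ g
  obtain ⟨w, hw, hwe⟩ := conj_lift M hu hu hu0 x (mul_inv_eq_iff_eq_mul.2 hg)
  refine ⟨⟨w * x, mul_mem (W_le M hw) x.2⟩, mul_inv_eq_iff_eq_mul.1 hwe, ?_⟩
  show bar L.t W (⟨w, W_le M hw⟩ * x) = _
  rw [map_mul, (bar_eq_one _).2 hw, one_mul]

/-- Coordinates of Hayden on the quotient, the plane being the abelian subgroup. -/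
theorem exists_cfg : ∃ el : ℕ → Gb L.t W, Hayden.Cfg el ∧ (el 9 = elb L W e0 ∨ el 9 = elb L W (-e0)) ∧
    ∀ u : V4, u 1 = 0 → ∃ v < 27, el (Hayden.vi v) = elb L W u := by
  classical
  haveI : Fact (Nat.Prime 3) := ⟨Nat.prime_three⟩
  set a := elb L W e0 with hadef
  have ha : orderOf a = 3 := orderOf_eq_prime (by
      rw [pow_three', hadef, ← elb_add M rfl rfl, ← elb_add M rfl rfl, e0_three, elb_zero M])
    fun h => absurd (elb_inj M rfl rfl (h.trans (elb_zero M).symm)) (by decide)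
  set C : Subgroup (Gb L.t W) := centralizer {a} with hC
  let Cz : Subgroup G := centralizer ({L.el e0} : Set G) ⊓ centralizer {L.t}
  have hCz : Cz ≤ NW L.t W := fun x hx => ⟨M.cent_singular hx, hx.2⟩
  let ψ : Cz →* C := ((bar L.t W).comp (Subgroup.inclusion hCz)).codRestrict C fun x => by
    rw [hC, mem_centralizer_singleton_iff, hadef, elb_eq M (v := e0) rfl]
    show bar L.t W _ * bar L.t W _ = bar L.t W _ * bar L.t W _
    rw [← map_mul, ← map_mul]
    exact congrArg _ (Subtype.ext (mem_centralizer_singleton_iff.1 x.2.1))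
  have hψ : Function.Surjective ψ := by
    rintro ⟨g, hg⟩
    obtain ⟨x, hx, hxe⟩ := cent_lift M (u := e0) rfl (by decide) (mem_centralizer_singleton_iff.1 hg)
    exact ⟨⟨x, mem_centralizer_singleton_iff.2 hx.eq, x.2.2⟩, Subtype.ext hxe⟩
  have hψ1 : ∀ x : Cz, ψ x = 1 ↔ (x : G) ∈ L.P := fun x => by
    have e : ψ x = 1 ↔ (x : G) ∈ W := Subtype.ext_iff.trans (bar_eq_one _)
    rw [e]
    exact ⟨fun h => M.fix_point _ h (mem_centralizer_singleton_iff.1 x.2.1), fun h => M.P_le h⟩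
  obtain ⟨f, hf, hfk⟩ := L.centT
  have hker : ψ.ker ≤ f.ker := fun x hx => MonoidHom.mem_ker.2
    ((hfk x).2 ⟨1, one_mem _, x, (hψ1 x).1 (MonoidHom.mem_ker.1 hx), (one_mul _).symm⟩)
  let f' := MonoidHom.liftOfSurjective ψ hψ ⟨f, hker⟩
  have hf' : ∀ x, f' (ψ x) = f x := fun x =>
    MonoidHom.liftOfRightInverse_comp_apply ψ _ _ ⟨f, hker⟩ x
  have hf's : Function.Surjective f' := fun y => by
    obtain ⟨x, rfl⟩ := hf y
    exact ⟨ψ x, hf' x⟩
  set R := L.Q ⊓ centralizer {L.t} with hR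
  have hRCz : R ≤ Cz := le_inf (inf_le_left.trans L.Q_le) inf_le_right
  let φ : R →* C := ψ.comp (Subgroup.inclusion hRCz)
  have hφi : Function.Injective φ := (injective_iff_map_eq_one φ).2 fun x hx => Subtype.ext (by
    have hP : (x : G) ∈ L.P := (hψ1 (Subgroup.inclusion hRCz x)).1 hx
    show (x : G) = 1
    rw [← orderOf_eq_one_iff]
    refine Nat.eq_one_of_dvd_coprimes (show Nat.Coprime 8 27 by norm_num) ?_ ?_
    · rw [← L.P_card, ← orderOf_mk _ hP]
      exact orderOf_dvd_natCard _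
    · rw [← L.cQt_card, Subgroup.orderOf_coe]
      exact orderOf_dvd_natCard _)
  have hφr : φ.range = f'.ker := by
    ext y
    constructor
    · rintro ⟨x, rfl⟩
      exact MonoidHom.mem_ker.2 ((hf' _).trans ((hfk _).2 ⟨x, x.2, 1, one_mem _, (mul_one _).symm⟩))
    · intro hy
      obtain ⟨x, rfl⟩ := hψ y
      obtain ⟨q, hq, p, hp, hx⟩ := (hfk x).1 ((hf' x).symm.trans (MonoidHom.mem_ker.1 hy))
      refine ⟨⟨q, hq⟩, ?_⟩
      have hp' : p ∈ Cz := L.P_le hp
      have e : x = Subgroup.inclusion hRCz ⟨q, hq⟩ * ⟨p, hp'⟩ := Subtype.ext hx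
      rw [e, map_mul, (hψ1 ⟨p, hp'⟩).2 hp, mul_one]
      rfl
  let eR : R ≃* f'.ker := (MonoidHom.ofInjective hφi).trans (MulEquiv.subgroupCongr hφr)
  have hcard : Nat.card f'.ker = 27 := by rw [← Nat.card_congr eR.toEquiv, L.cQt_card]
  have hcore : Cfsg.pCore 3 C = f'.ker :=
    pCore_of_hom f' hf's (IsPGroup.of_card (n := 3) (by rw [hcard]; norm_num))
  let eQ : C ⧸ Cfsg.pCore 3 C ≃* Cfsg.Agent.HeisSLThree.SL₂ :=
    (QuotientGroup.quotientMulEquivOfEq hcore).trans (QuotientGroup.quotientKerEquivOfSurjective f' hf's)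
  -- the plane
  let J : Subgroup (Gb L.t W) :=
    { carrier := {g | ∃ v : V4, v 1 = 0 ∧ elb L W v = g}
      one_mem' := ⟨0, rfl, elb_zero M⟩
      mul_mem' := by
        rintro _ _ ⟨u, hu, rfl⟩ ⟨v, hv, rfl⟩
        exact ⟨u + v, by simp [hu, hv], elb_add M hu hv⟩
      inv_mem' := by
        rintro _ ⟨u, hu, rfl⟩
        refine ⟨-u, by simp [hu], eq_inv_of_mul_eq_one_left ?_⟩
        rw [← elb_add M (show (-u) 1 = 0 by simp [hu]) hu, neg_add_cancel, elb_zero M] }
  have hJc : Nat.card J = 27 := by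
    have e : Function.Bijective (fun v : {v : V4 // v 1 = 0} => (⟨elb L W v, v, v.2, rfl⟩ : J)) :=
      ⟨fun u v h => Subtype.ext (elb_inj M u.2 v.2 (congrArg Subtype.val h)),
        fun ⟨g, v, hv, h⟩ => ⟨⟨v, hv⟩, Subtype.ext h⟩⟩
    rw [← Nat.card_congr (Equiv.ofBijective _ e), card_plane]
  have hJC : J ≤ C := by
    rintro _ ⟨v, hv, rfl⟩
    rw [hC, mem_centralizer_singleton_iff, hadef, ← elb_add M hv rfl, ← elb_add M rfl hv, add_comm]
  have hJm : IsMulCommutative J := ⟨⟨by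
    rintro ⟨_, u, hu, rfl⟩ ⟨_, v, hv, rfl⟩
    refine Subtype.ext ?_
    show elb L W u * elb L W v = elb L W v * elb L W u
    rw [← elb_add M hu hv, ← elb_add M hv hu, add_comm]⟩⟩
  have hJe : ∀ j ∈ J, j ^ 3 = 1 := by
    rintro _ ⟨v, hv, rfl⟩
    rw [elb_eq M hv, ← map_pow, bar_eq_one]
    show L.el v ^ 3 ∈ W
    rw [el_pow3]
    exact one_mem W
  have hJsig : ∀ K : Subgroup (Gb L.t W), (Nat.card K).Coprime 3 →
      (∀ j ∈ J, K.map (MulAut.conj j).toMonoidHom = K) → K = ⊥ := by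
    intro K hK hn
    set K' : Subgroup G := (K.comap (bar L.t W)).map (NW L.t W).subtype with hK'
    have hle : K' ≤ W := by
      refine M.sig K' (fun x hx => ?_) ?_ ?_
      · obtain ⟨y, -, rfl⟩ := hx
        exact y.2.2
      · rw [hK', card_map_of_injective (NW L.t W).subtype_injective]
        have h := (W.subgroupOf (NW L.t W)).card_mul_index
        have hc : Nat.card (K.comap (bar L.t W)) = 512 * Nat.card K := by
          have h1 := (K.comap (bar L.t W)).card_mul_index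
          rw [index_comap_of_surjective _ (QuotientGroup.mk'_surjective _)] at h1
          have h2 := K.card_mul_index
          have h3 : Nat.card (W.subgroupOf (NW L.t W)) = 512 :=
            (Nat.card_congr (subgroupOfEquivOfLe (W_le M)).toEquiv).trans M.card
          rw [h3, index_eq_card, ← h2, ← h1, ← mul_assoc] at h
          exact (Nat.eq_of_mul_eq_mul_right (Nat.pos_of_ne_zero index_ne_zero_of_finite) h).symm
        rw [hc]
        exact Nat.Coprime.mul_left (by norm_num) hK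
      · intro v hv k hk
        obtain ⟨y, hy, rfl⟩ := hk
        refine ⟨⟨L.el v, el_mem M hv⟩ * y * ⟨L.el v, el_mem M hv⟩⁻¹, ?_, rfl⟩
        show bar L.t W _ ∈ K
        rw [map_mul, map_mul, map_inv, ← elb_eq M hv]
        exact (hn _ ⟨v, hv, rfl⟩).le ⟨bar L.t W y, hy, rfl⟩
    refine (eq_bot_iff_forall _).2 fun g hg => ?_
    obtain ⟨x, rfl⟩ := QuotientGroup.mk'_surjective _ g
    exact (bar_eq_one x).2 (hle ⟨x, hg, rfl⟩)
  obtain ⟨el, hel, h9, hJ⟩ := exists_cfg_at a ha C hC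
    (hcore ▸ Co2Recog.Start.extraspecial_iso eR R_extra) (hcore ▸ hcard) (by
      rw [hcore]
      intro r hr
      obtain ⟨x, hx⟩ := eR.surjective ⟨r, hr⟩
      have h3 : x ^ 3 = 1 := Subtype.ext (by simpa using L.Q_exp x x.2.1)
      have := congrArg eR h3
      rw [map_pow, hx, map_one] at this
      exact congrArg Subtype.val this) eQ J hJC hJm hJe hJc hJsig
  refine ⟨el, hel, h9.imp id fun h => ?_, fun u hu => hJ _ ⟨u, hu, rfl⟩⟩
  rw [h, hadef]
  refine inv_eq_of_mul_eq_one_right ?_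
  rw [← elb_add M rfl (by decide), add_neg_cancel, elb_zero M]

end Cfsg.Agent.Co2Three.Quot
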