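import Cfsg.Agent.Lib.Co2Three.Quot.Local

/-!
The centraliser of an exterior point and the reflection: it has order at most 3456, and the quaternion groups at the
two singular points of the plane orthogonal to the exterior point commute.
-/

set_option autoImplicit false
set_option maxRecDepth 20000
set_option linter.style.haveILetI false
set_option linter.unusedSectionVars false

namespace Cfsg.Agent.Co2Three

open Subgroup
open Cfsg.Agent.Hayden Cfsg.Agent.Hayden.Cfg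

def moveList3 : List (V4 × Matrix (Fin 4) (Fin 4) (ZMod 3)) := [
  (![0, 0, 0, 1], !![1, 0, 0, 0; 0, 1, 0, 0; 0, 0, 1, 0; 0, 0, 0, 1]),
  (![0, 0, 0, 2], !![1, 0, 0, 0; 0, 1, 0, 0; 0, 0, 1, 0; 0, 0, 0, 1]),
  (![1, 1, 0, 1], !![1, 1, 0, 1; 0, 2, 0, 1; 0, 0, 1, 0; 0, 0, 0, 1]),
  (![1, 2, 0, 1], !![1, 2, 0, 1; 0, 2, 0, 2; 0, 0, 1, 0; 0, 0, 0, 1]),
  (![2, 1, 0, 2], !![1, 2, 0, 1; 0, 2, 0, 2; 0, 0, 1, 0; 0, 0, 0, 1]),
  (![2, 2, 0, 2], !![1, 1, 0, 1; 0, 2, 0, 1; 0, 0, 1, 0; 0, 0, 0, 1])]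

theorem move3_cover : ∀ v : V4, v ≠ 0 → qf v = 0 → v 2 = 0 → v 3 ≠ 0 → v ∈ moveList3.map Prod.fst := by
  decide +kernel

theorem move3_ok' : moveList3.all (fun p => (decide (p.2.mulVec p.1 = e3) || decide (p.2.mulVec p.1 = -e3)) &&
    decide (p.2.mulVec e0 = e0) && decide (p.2.mulVec e2 = e2) && decide (∀ v, qf (p.2.mulVec v) = qf v)) = true := by
  decide +kernel

theorem point_facts : (1 ∈ O8) ∧ (9 ∈ O8) ∧ (3 ∉ O8) ∧ (∀ a ∈ [1, 2, 9, 18], vadd a 3 ∉ O8 ∧ vadd a (vneg 3) ∉ O8) ∧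
    vadd 1 1 = 2 ∧ vadd 9 9 = 18 ∧ app zMap 1 = 1 ∧ app zMap 9 = 9 ∧ app zMap 3 = vadd 3 3 := by decide +kernel

theorem tangent_point : ∀ u : V4, u 2 = 0 → qf u = 0 → u 3 = 0 → u = e0 ∨ u = -e0 ∨ u = 0 := by decide +kernel

theorem polar_point : ∀ w : V4, w 2 = 0 → w ≠ 0 → qf w ≠ 0 → qf (e0 + w) ≠ 0 → qf (-e0 + w) ≠ 0 →
    qf (e3 + w) ≠ 0 → qf (-e3 + w) ≠ 0 → w = e1 ∨ w = -e1 := by decide +kernel

theorem refl1_facts : refl1 e0 = e0 ∧ refl1 e2 = e2 ∧ refl1 e3 = e3 ∧ refl1 e1 = -e1 ∧ e0 3 = 0 ∧ e3 3 ≠ 0 ∧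
    e2 3 = 0 ∧ e3 1 = 0 ∧ e0 2 = 0 ∧ e3 2 = 0 := by decide +kernel

theorem plane_split : ∀ v : V4, v = (v 0 • e0 + v 1 • e1 + v 3 • e3) + v 2 • e2 := by decide +kernel

theorem code_quat : ∀ i < 648, T i 81 = T 81 i → T (T i i) (T i i) = 0 → 27 * (i / 27) = i := by decide +kernel

theorem app_sw_nine : app swMap 9 = 2 ∧ vadd 1 1 = 2 := by decide +kernel

theorem cube_eight : ∀ k < 8, k * (k * k) % 8 = 1 → k = 1 := by decide

namespace Loc

variable {G : Type*} [Group G] [Finite G] (L : Loc G)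

theorem t_comm {v : V4} (h : refl1 v = v) : Commute L.t (L.el v) :=
  mul_inv_eq_iff_eq_mul.1 (by rw [L.t_act, h])

theorem t_mem_CB : L.t ∈ L.CB := mem_centralizer_singleton_iff.2 (L.t_comm refl1_facts.2.1).eq

/-- The reflection modulo the exterior point. -/
def tb : L.XB := L.pr ⟨L.t, L.t_mem_CB⟩

theorem tb_sq : L.tb * L.tb = 1 := by
  rw [tb, ← map_mul, show (⟨L.t, L.t_mem_CB⟩ : L.CB) * ⟨L.t, L.t_mem_CB⟩ = 1 from Subtype.ext L.t_sq, map_one]

theorem tb_act (v : V4) : L.tb * L.bar v * L.tb⁻¹ = L.bar (refl1 v) :=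
  L.pr_conj.2 ⟨0, by rw [zero_smul, add_zero]; exact L.t_act v⟩

theorem bar_zero : L.bar (0 : V4) = 1 := by
  rw [bar]; exact L.pr_eq_one.2 ⟨0, by rw [zero_smul]⟩

theorem bar_neg (v : V4) : L.bar (-v) = (L.bar v)⁻¹ :=
  eq_inv_of_mul_eq_one_left (by rw [← L.bar_add, neg_add_cancel, L.bar_zero])

theorem bar_smul (i : ZMod 3) (v : V4) : L.bar (i • v) = L.bar v ^ i.val := by
  rw [bar, bar, ← map_pow]
  exact congrArg _ (Subtype.ext (L.el_smul i v))

/-- The frame at the exterior point with the reflection as the central involution. -/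
theorem exists_frame : ∃ (el : ℕ → L.XB) (C : Cfg el) (s h : L.XB), C.Sw s ∧
    (∀ k < 24, ∀ l < 24, Commute (el (27 * k)) (s * el (27 * l) * s⁻¹)) ∧
    Nat.card (S3342CentZ.cz el) ≤ 1152 ∧ h * el 81 * h⁻¹ = L.tb ∧
    (h * el 9 * h⁻¹ = L.bar e0 ∨ h * el 9 * h⁻¹ = L.bar (-e0)) ∧
    (h * el 27 * h⁻¹ = L.bar e3 ∨ h * el 27 * h⁻¹ = L.bar (-e3)) ∧
    (∃ m, C.Neg s m) ∧ cg el 10 ≤ normalizer (C.VJ : Set L.XB) ∧ cg el 19 ≤ normalizer (C.VJ : Set L.XB) ∧
    (∀ v < 27, C.Orb v ↔ v ∈ O8) ∧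
    (∀ v < 27, ∃ u : V4, u 2 = 0 ∧ h * el (vi v) * h⁻¹ = L.bar u ∧ (v ∈ O8 → u ≠ 0 ∧ qf u = 0)) := by
  obtain ⟨el, C, a, s, m, ha, h9, hO, hV, S, N, h10, h19, hcomm, hcz⟩ := L.exists_small
  obtain ⟨p1, p9, p3, padd, p11, p99, z1, z9, z3⟩ := point_facts
  have hv1 : el (vi 1) = L.bar a := by rw [chk_vi.2.2.1]; exact h9
  obtain ⟨u9, hu92, hu9⟩ := L.bar_orth hV C (show 9 < 27 by norm_num)
  obtain ⟨u3, hu32, hu3⟩ := L.bar_orth hV C (show 3 < 27 by norm_num)
  obtain ⟨hn9, hq9⟩ := (L.orb_iff C ha h9 hu92 hu9).1 ((hO 9 (by norm_num)).2 p9)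
  have h93 : u9 3 ≠ 0 := by
    intro h0
    rcases tangent_point u9 hu92 hq9 h0 with e | e | e
    · rcases ha with rfl | rfl
      · exact absurd (C.vi_inj (by norm_num) (by norm_num) (hu9.trans (e ▸ hv1.symm))) (by norm_num)
      · refine absurd (C.vi_inj (v := 9) (w := 2) (by norm_num) (by norm_num) ?_) (by norm_num)
        rw [← p11, C.el_vadd (by norm_num) (by norm_num), hu9, hv1, ← L.bar_add, e]
        exact congrArg L.bar (by decide +kernel)
    · rcases ha with rfl | rfl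
      · refine absurd (C.vi_inj (v := 9) (w := 2) (by norm_num) (by norm_num) ?_) (by norm_num)
        rw [← p11, C.el_vadd (by norm_num) (by norm_num), hu9, hv1, ← L.bar_add, e]
        exact congrArg L.bar (by decide +kernel)
      · exact absurd (C.vi_inj (by norm_num) (by norm_num) (hu9.trans (e ▸ hv1.symm))) (by norm_num)
    · exact hn9 e
  obtain ⟨p, hp, hpe⟩ := List.mem_map.1 (move3_cover u9 hn9 hq9 hu92 h93)
  have hm := List.all_eq_true.1 move3_ok' p hp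
  simp only [Bool.and_eq_true, Bool.or_eq_true, decide_eq_true_eq] at hm
  obtain ⟨⟨⟨m9, m0⟩, m2⟩, mq⟩ := hm
  obtain ⟨g, hg⟩ := L.realise p.2 (Or.inl mq)
  have hgB : g ∈ L.CB := mem_centralizer_singleton_iff.2 (mul_inv_eq_iff_eq_mul.1 (by rw [hg, m2]))
  set k : L.XB := L.pr ⟨g, hgB⟩ with hk
  have kact : ∀ v, k * L.bar v * k⁻¹ = L.bar (p.2.mulVec v) := fun v =>
    L.pr_conj.2 ⟨0, by rw [zero_smul, add_zero]; exact hg v⟩
  -- the third point becomes the polar of the line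
  have hw2 : (p.2.mulVec u3) 2 = 0 := by
    have h : bf (p.2.mulVec u3) (p.2.mulVec e2) = bf u3 e2 := by
      rw [bf_eq, ← Matrix.mulVec_add, mq, mq, mq, bf_eq]
    rw [m2] at h
    have key : ∀ x : V4, bf x e2 = 0 ↔ x 2 = 0 := by decide +kernel
    exact (key _).1 (h.trans ((key u3).2 hu32))
  have hsum : ∀ b : ℕ, b < 27 → ∀ v : V4, v 2 = 0 → el (vi b) = L.bar v →
      vadd b 3 ∉ O8 → vadd b (vneg 3) ∉ O8 → qf (v + u3) = 0 → v + u3 = 0 := by
    intro b hb v hv2 hbe hno _ hq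
    by_contra hne
    exact hno ((hO _ (vadd_lt _ _)).1 ((L.orb_iff C ha h9 (add_two v u3 hv2 hu32).1 (by
      rw [C.el_vadd hb (by norm_num), hbe, hu3, ← L.bar_add])).2 ⟨hne, hq⟩))
  have ha2 : a 2 = 0 := by rcases ha with rfl | rfl <;> decide +kernel
  have hu30 : u3 ≠ 0 := fun e => by
    rw [e, L.bar_zero, ← C.el_zero, ← chk_vi.2.1] at hu3
    exact absurd (C.vi_inj (by norm_num) (by norm_num) hu3) (by norm_num)
  have hq3 : qf u3 ≠ 0 := fun hq => p3 ((hO 3 (by norm_num)).1 ((L.orb_iff C ha h9 hu32 hu3).2 ⟨hu30, hq⟩))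
  have four : ∀ (b : ℕ) (v : V4), b ∈ [1, 2, 9, 18] → v 2 = 0 → el (vi b) = L.bar v → qf v = 0 →
      qf (p.2.mulVec v + p.2.mulVec u3) ≠ 0 := by
    intro b v hb hv2 hbe hqv hq
    rw [← Matrix.mulVec_add, mq] at hq
    have hb27 : b < 27 := by simp at hb; omega
    have h0 := hsum b hb27 v hv2 hbe (padd b hb).1 (padd b hb).2 hq
    exact hq3 (by rw [eq_neg_of_add_eq_zero_right h0, (neg_facts v).1, hqv])
  have f1 := four 1 a (by simp) ha2 hv1 (by rcases ha with rfl | rfl <;> decide +kernel)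
  have f2 := four 2 (-a) (by simp) ((neg_facts a).2.1 ha2)
    (by
      rw [← p11, C.el_vadd (by norm_num) (by norm_num), hv1, ← L.bar_add]
      have : ∀ x : ZMod 3, x + x = -x := by decide
      exact congrArg L.bar (funext fun i => this (a i)))
    (by rw [(neg_facts a).1]; rcases ha with rfl | rfl <;> decide +kernel)
  have f3 := four 9 u9 (by simp) hu92 hu9 hq9
  have f4 := four 18 (-u9) (by simp) ((neg_facts u9).2.1 hu92)
    (by
      rw [← p99, C.el_vadd (by norm_num) (by norm_num), hu9, ← L.bar_add]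
      have : ∀ x : ZMod 3, x + x = -x := by decide
      exact congrArg L.bar (funext fun i => this (u9 i)))
    (by rw [(neg_facts u9).1]; exact hq9)
  have hma : p.2.mulVec a = a := by
    rcases ha with rfl | rfl
    · exact m0
    · rw [Matrix.mulVec_neg, m0]
  rw [hma] at f1
  rw [Matrix.mulVec_neg, hma] at f2
  rw [Matrix.mulVec_neg] at f4
  rw [← hpe] at f3 f4
  have hw0 : p.2.mulVec u3 ≠ 0 := fun e => hq3 (by rw [← mq, e]; decide +kernel)
  have hwe : p.2.mulVec u3 = e1 ∨ p.2.mulVec u3 = -e1 := by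
    refine polar_point _ hw2 hw0 (by rw [mq]; exact hq3) ?_ ?_ ?_ ?_
    · rcases ha with rfl | rfl
      · exact f1
      · rwa [neg_neg] at f2
    · rcases ha with rfl | rfl
      · exact f2
      · exact f1
    · rcases m9 with e | e <;> rw [e] at f3 f4
      · exact f3
      · rwa [neg_neg] at f4
    · rcases m9 with e | e <;> rw [e] at f3 f4
      · exact f4
      · exact f3
  -- the two involutions agree on the plane
  set z : L.XB := k * el 81 * k⁻¹ with hz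
  have hz_pt : ∀ v : V4, ∀ b < 27, el (vi b) = L.bar v →
      z * L.bar (p.2.mulVec v) * z⁻¹ = k * el (vi (app zMap b)) * k⁻¹ := fun v b hb he => by
    rw [← C.conj_z hb, he, ← kact v, hz]; group
  have za : ∀ v : V4, (v = e0 ∨ v = e3 ∨ v = e1) → z * L.bar v * z⁻¹ = L.bar (refl1 v) := by
    have inv_of : ∀ {v w : V4}, z * L.bar v * z⁻¹ = L.bar w → z * L.bar (-v) * z⁻¹ = L.bar (-w) := fun {v w} h => by
      rw [L.bar_neg, L.bar_neg, ← h]; group
    have e0' : z * L.bar a * z⁻¹ = L.bar a := by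
      have h := hz_pt a 1 (by norm_num) hv1
      rwa [hma, z1, hv1, kact, hma] at h
    have e3' : z * L.bar (p.2.mulVec u9) * z⁻¹ = L.bar (p.2.mulVec u9) := by
      have h := hz_pt u9 9 (by norm_num) hu9
      rwa [z9, hu9, kact] at h
    have e1' : z * L.bar (p.2.mulVec u3) * z⁻¹ = L.bar (-p.2.mulVec u3) := by
      have h := hz_pt u3 3 (by norm_num) hu3
      rw [z3, C.el_vadd (by norm_num) (by norm_num), hu3, ← L.bar_add, kact, Matrix.mulVec_add] at h
      rw [h]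
      have : ∀ x : ZMod 3, x + x = -x := by decide
      exact congrArg L.bar (funext fun i => this _)
    rw [← hpe] at e3'
    rintro v (rfl | rfl | rfl)
    · rw [refl1_facts.1]
      rcases ha with rfl | rfl
      · exact e0'
      · simpa using inv_of e0'
    · rw [refl1_facts.2.2.1]
      rcases m9 with e | e <;> rw [e] at e3'
      · exact e3'
      · simpa using inv_of e3'
    · rw [refl1_facts.2.2.2.1]
      rcases hwe with e | e <;> rw [e] at e1'
      · exact e1'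
      · simpa using inv_of e1'
  have zall : ∀ v, z * L.bar v * z⁻¹ = L.bar (refl1 v) := by
    intro v
    have hr : ∀ x y : V4, refl1 (x + y) = refl1 x + refl1 y := fun x y => by
      funext i; fin_cases i <;> simp [refl1] <;> ring
    have hm' : ∀ (i : ZMod 3) (x : V4), refl1 (i • x) = i • refl1 x := fun i x => by
      funext j; fin_cases j <;> simp [refl1]
    have mul' : ∀ x y : V4, z * L.bar x * z⁻¹ = L.bar (refl1 x) → z * L.bar y * z⁻¹ = L.bar (refl1 y) →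
        z * L.bar (x + y) * z⁻¹ = L.bar (refl1 (x + y)) := fun x y hx hy => by
      rw [hr, L.bar_add, L.bar_add, ← hx, ← hy]; group
    have smul' : ∀ (i : ZMod 3) (x : V4), z * L.bar x * z⁻¹ = L.bar (refl1 x) →
        z * L.bar (i • x) * z⁻¹ = L.bar (refl1 (i • x)) := fun i x hx => by
      rw [hm', L.bar_smul, L.bar_smul, ← hx, conj_pow]
    rw [plane_split v]
    refine mul' _ _ (mul' _ _ (mul' _ _ (smul' _ _ (za _ (Or.inl rfl))) (smul' _ _ (za _ (Or.inr (Or.inr rfl)))))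
      (smul' _ _ (za _ (Or.inr (Or.inl rfl))))) ?_
    have hb : L.bar (v 2 • e2) = 1 := by rw [bar]; exact L.pr_eq_one.2 ⟨v 2, rfl⟩
    rw [hm', refl1_facts.2.1, hb, mul_one, mul_inv_cancel]
  set T' : L.XB := k⁻¹ * L.tb * k with hT'
  have T2 : T' * T' = 1 := by
    rw [hT', show k⁻¹ * L.tb * k * (k⁻¹ * L.tb * k) = k⁻¹ * (L.tb * L.tb) * k by group, L.tb_sq]; group
  obtain ⟨j, hj, hje⟩ := C.cent_VJ (g := T' * (el 81)⁻¹) fun v hv => by
    obtain ⟨u, -, hu⟩ := L.bar_orth hV C hv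
    have h2 : (el 81)⁻¹ = el 81 := inv_eq_of_mul_eq_one_right C.z_sq
    rw [hu, hT']
    calc k⁻¹ * L.tb * k * (el 81)⁻¹ * L.bar u * (k⁻¹ * L.tb * k * (el 81)⁻¹)⁻¹
        = k⁻¹ * (L.tb * (k * ((el 81)⁻¹ * L.bar u * el 81) * k⁻¹) * L.tb⁻¹) * k := by group
      _ = _ := by
        rw [h2]
        rw [← hu]
        have h5 : el 81 * el (vi v) * el 81 = el (vi (app zMap v)) := by
          have := C.conj_z hv; rwa [h2] at this
        rw [h5]
        obtain ⟨u', -, hu'⟩ := L.bar_orth hV C (app_lt zMap v)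
        rw [hu', kact, L.tb_act]
        have h6 := zall (p.2.mulVec u')
        rw [← h6, ← kact, ← hu', hz]
        have h7 : el 81 * el (vi (app zMap v)) * (el 81)⁻¹ = el (vi v) := by
          rw [C.conj_z (app_lt _ _)]
          congr 2
          exact (show ∀ v < 27, app zMap (app zMap v) = v by decide +kernel) v hv
        rw [← h7]
        group
  have hTe : T' = el (vi j) * el 81 := by rw [hje]; group
  have hsq : T (T (vi j) 81) (T (vi j) 81) = 0 := by
    refine C.inj _ (T_lt (T_lt (chk_j.1 j hj) (by norm_num)) (T_lt (chk_j.1 j hj) (by norm_num))) _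
      (by norm_num) ?_
    rw [← C.mul _ (T_lt (chk_j.1 j hj) (by norm_num)) _ (T_lt (chk_j.1 j hj) (by norm_num)),
      ← C.mul _ (chk_j.1 j hj) 81 (by norm_num), ← hTe, T2, C.el_zero]
  obtain ⟨r, hr, hre⟩ := chk_z.2.2 j hj hsq
  have hrT : el (vi r) * el 81 * (el (vi r))⁻¹ = T' := by
    rw [C.conj (chk_j.1 r hr) (by norm_num), hre, ← C.mul _ (chk_j.1 j hj) 81 (by norm_num), hTe]
  have fixc : ∀ b < 27, el (vi r) * el (vi b) * (el (vi r))⁻¹ = el (vi b) := fun b hb => by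
    rw [(C.comm_iff (chk_j.1 r hr) (chk_j.1 b hb)).2 (chk_vmul r hr b hb).2, mul_inv_cancel_right]
  have key2 : ∀ x : V4, bf x e2 = 0 ↔ x 2 = 0 := by decide +kernel
  have hpts : ∀ v < 27, ∃ u : V4, u 2 = 0 ∧ k * el (vi r) * el (vi v) * (k * el (vi r))⁻¹ = L.bar u ∧
      (v ∈ O8 → u ≠ 0 ∧ qf u = 0) := by
    intro v hv
    obtain ⟨u, hu2, hu⟩ := L.bar_orth hV C hv
    refine ⟨p.2.mulVec u, ?_, ?_, fun hv8 => ?_⟩
    · have h : bf (p.2.mulVec u) (p.2.mulVec e2) = bf u e2 := by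
        rw [bf_eq, ← Matrix.mulVec_add, mq, mq, mq, bf_eq]
      rw [m2] at h
      exact (key2 _).1 (h.trans ((key2 u).2 hu2))
    · rw [show k * el (vi r) * el (vi v) * (k * el (vi r))⁻¹ =
        k * (el (vi r) * el (vi v) * (el (vi r))⁻¹) * k⁻¹ by group, fixc v hv, hu, kact]
    · obtain ⟨h0, hq⟩ := (L.orb_iff C ha h9 hu2 hu).1 ((hO v hv).2 hv8)
      refine ⟨fun e => h0 (L.el_eq_one.1 ?_), (mq u).trans hq⟩
      have := hg u
      rw [e, L.el_zero, conj_eq_one_iff] at this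
      exact this
  refine ⟨el, C, s, k * el (vi r), S, hcomm, hcz, ?_, ?_, ?_, ⟨m, N⟩, h10, h19, hO, hpts⟩
  · rw [show k * el (vi r) * el 81 * (k * el (vi r))⁻¹ = k * (el (vi r) * el 81 * (el (vi r))⁻¹) * k⁻¹ by group,
      hrT, hT']
    group
  · rw [← chk_vi.2.2.1, show k * el (vi r) * el (vi 1) * (k * el (vi r))⁻¹ =
      k * (el (vi r) * el (vi 1) * (el (vi r))⁻¹) * k⁻¹ by group, fixc 1 (by norm_num), hv1, kact, hma]
    rcases ha with rfl | rfl
    · exact Or.inl rfl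
    · exact Or.inr rfl
  · rw [← chk_vi.2.2.2.2, show k * el (vi r) * el (vi 9) * (k * el (vi r))⁻¹ =
      k * (el (vi r) * el (vi 9) * (el (vi r))⁻¹) * k⁻¹ by group, fixc 9 (by norm_num), hu9, kact, ← hpe]
    rcases m9 with e | e
    · exact Or.inl (by rw [e])
    · exact Or.inr (by rw [e])

/-- The order at the exterior point. -/
theorem card_exterior_le : Nat.card ↥(centralizer ({L.el e2} : Set G) ⊓ centralizer {L.t}) ≤ 3456 := by
  classical
  obtain ⟨el, C, s, h, -, -, hcz, hh, -⟩ := L.exists_frame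
  set D : Subgroup G := centralizer ({L.el e2} : Set G) ⊓ centralizer {L.t} with hD
  let φ : ↥D →* L.XB := L.pr.comp (Subgroup.inclusion (inf_le_left : D ≤ L.CB))
  have hker : Nat.card φ.ker ≤ 3 := by
    refine le_trans (Nat.card_le_card_of_surjective (fun i : ZMod 3 => (⟨⟨L.el (i • e2), ?_⟩, ?_⟩ : φ.ker)) ?_)
      (Nat.card_zmod 3).le
    · refine mem_inf.2 ⟨L.el_mem_CB _, mem_centralizer_singleton_iff.2 (L.t_comm ?_).eq.symm⟩
      revert i; decide +kernel
    · exact L.pr_eq_one.2 ⟨i, rfl⟩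
    · rintro ⟨⟨x, hx⟩, hxk⟩
      obtain ⟨i, hi⟩ := L.pr_eq_one.1 hxk
      exact ⟨i, Subtype.ext (Subtype.ext hi.symm)⟩
  have hrange : Nat.card φ.range ≤ 1152 := by
    refine le_trans (Nat.card_le_card_of_injective (fun x : φ.range => (⟨h⁻¹ * x.1 * h, ?_⟩ :
      S3342CentZ.cz el)) fun x y e => Subtype.ext ?_) hcz
    · obtain ⟨x, d, rfl⟩ := x
      refine mem_centralizer_singleton_iff.2 ?_
      have hc : φ d * L.tb = L.tb * φ d := by
        rw [tb, MonoidHom.comp_apply, ← map_mul, ← map_mul]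
        exact congrArg _ (Subtype.ext (mem_centralizer_singleton_iff.1 (mem_inf.1 d.2).2))
      show h⁻¹ * φ d * h * el 81 = el 81 * (h⁻¹ * φ d * h)
      calc h⁻¹ * φ d * h * el 81 = h⁻¹ * (φ d * (h * el 81 * h⁻¹)) * h := by group
        _ = h⁻¹ * (L.tb * φ d) * h := by rw [hh, hc]
        _ = _ := by rw [← hh]; group
    · exact mul_left_cancel (mul_right_cancel (congrArg Subtype.val e))
  have := φ.ker.card_mul_index
  rw [Subgroup.index_ker] at this
  rw [← this]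
  exact (Nat.mul_le_mul hker hrange).trans (by norm_num)

theorem el_e2_mem_Qt : L.el e2 ∈ L.Q ⊓ centralizer {L.t} :=
  mem_inf.2 ⟨(L.Q_J e2).2 refl1_facts.2.2.2.2.2.2.1,
    mem_centralizer_singleton_iff.2 (L.t_comm refl1_facts.2.1).eq.symm⟩

/-- The quaternion group has exponent four. -/
theorem P_four {p : G} (hp : p ∈ L.P) : p ^ 4 = 1 := by
  classical
  haveI : Fact (Nat.Prime 2) := ⟨Nat.prime_two⟩
  have h8 : orderOf p ∣ 2 ^ 3 := by
    rw [show (2 : ℕ) ^ 3 = Nat.card L.P by rw [L.P_card]; norm_num, ← Subgroup.orderOf_mk p hp]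
    exact orderOf_dvd_natCard _
  obtain ⟨i, hi, he⟩ := (Nat.dvd_prime_pow Nat.prime_two).1 h8
  by_cases h3 : i = 3
  · exfalso
    subst h3
    have hP : L.P = zpowers p := (Subgroup.eq_of_le_of_card_ge (zpowers_le.2 hp) (by
      rw [Nat.card_zpowers, he, L.P_card]; norm_num)).symm
    have he3 : L.el e3 ∈ centralizer ({L.el e0} : Set G) ⊓ centralizer {L.t} :=
      mem_inf.2 ⟨mem_centralizer_singleton_iff.2 (L.el_comm e3 e0).eq,
        mem_centralizer_singleton_iff.2 (L.t_comm refl1_facts.2.2.1).eq.symm⟩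
    obtain ⟨n, hn⟩ := (isOfFinOrder_of_finite _).mem_powers_iff_mem_zpowers.2 (hP ▸ L.P_norm _ he3 p hp)
    obtain ⟨n', hn8, hn'⟩ : ∃ n' < 8, L.el e3 * p * (L.el e3)⁻¹ = p ^ n' :=
      ⟨n % 8, Nat.mod_lt _ (by norm_num), by
        rw [show (8 : ℕ) = orderOf p by rw [he]; norm_num, pow_mod_orderOf]; exact hn.symm⟩
    have step : ∀ m : ℕ, L.el e3 * p ^ m * (L.el e3)⁻¹ = p ^ (n' * m) := fun m => by
      rw [← conj_pow, hn', ← pow_mul]
    have h333 : p ^ (n' * (n' * n')) = p ^ 1 := by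
      rw [← step, ← step n', ← hn', pow_one]
      have := L.el_cube e3
      rw [pow_three] at this
      calc L.el e3 * (L.el e3 * (L.el e3 * p * (L.el e3)⁻¹) * (L.el e3)⁻¹) * (L.el e3)⁻¹
          = L.el e3 * (L.el e3 * L.el e3) * p * (L.el e3 * (L.el e3 * L.el e3))⁻¹ := by group
        _ = p := by rw [this]; group
    rw [pow_eq_pow_iff_modEq, he] at h333
    have h1 : n' = 1 := cube_eight n' hn8 h333
    rw [h1, pow_one] at hn'
    have hall : ∀ q ∈ L.P, q = 1 ∨ q = L.t := fun q hq => by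
      refine L.P_move e3 refl1_facts.2.2.2.2.2.2.2.1 refl1_facts.2.2.2.2.2.1 q hq ?_
      have hc : Commute p (L.el e3) := (mul_inv_eq_iff_eq_mul.1 hn').symm
      obtain ⟨m, rfl⟩ := mem_zpowers_iff.1 (hP ▸ hq)
      exact hc.zpow_left m
    have hcard : Nat.card L.P ≤ Nat.card ({1, L.t} : Finset G) :=
      Nat.card_le_card_of_injective (fun q : L.P => ⟨q.1, by
        rcases hall q.1 q.2 with e | e <;> simp [e]⟩) fun x y e => Subtype.ext (congrArg Subtype.val e :)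
    rw [L.P_card, Nat.card_eq_finsetCard] at hcard
    exact absurd (hcard.trans Finset.card_le_two) (by norm_num)
  · refine orderOf_dvd_iff_pow_eq_one.1 ?_
    rw [he, show (4 : ℕ) = 2 ^ 2 from rfl]
    exact pow_dvd_pow 2 (by omega)

/-- Two-elements at the two singular points commute. -/
theorem pair_comm {p q : G} (hp : p ^ 4 = 1) (hq : q ^ 4 = 1)
    (p0 : Commute p (L.el e0)) (p2 : Commute p (L.el e2)) (pt : Commute p L.t)
    (q3 : Commute q (L.el e3)) (q2 : Commute q (L.el e2)) (qt : Commute q L.t) : Commute p q := by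
  obtain ⟨el, C, s, h, S, hcomm, -, hh, hh9, hh27, -⟩ := L.exists_frame
  have hpB : p ∈ L.CB := mem_centralizer_singleton_iff.2 p2.eq
  have hqB : q ∈ L.CB := mem_centralizer_singleton_iff.2 q2.eq
  set x : L.XB := h⁻¹ * L.pr ⟨p, hpB⟩ * h with hx
  set y : L.XB := h⁻¹ * L.pr ⟨q, hqB⟩ * h with hy
  have pull : ∀ {g : G} (hg : g ∈ L.CB) {b : L.XB}, Commute (L.pr ⟨g, hg⟩) (h * b * h⁻¹) →
      Commute (h⁻¹ * L.pr ⟨g, hg⟩ * h) b := by
    intro g hg b hc
    have := hc.conj h⁻¹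
    rw [inv_inv] at this
    simpa [mul_assoc] using this
  have pr_c : ∀ {g : G} (hg : g ∈ L.CB) {v : V4}, Commute g (L.el v) → Commute (L.pr ⟨g, hg⟩) (L.bar v) :=
    fun hg v hc => Commute.map (show Commute (⟨_, hg⟩ : L.CB) ⟨L.el v, L.el_mem_CB v⟩ from Subtype.ext hc.eq) L.pr
  have pr_t : ∀ {g : G} (hg : g ∈ L.CB), Commute g L.t → Commute (L.pr ⟨g, hg⟩) L.tb :=
    fun hg hc => Commute.map (show Commute (⟨_, hg⟩ : L.CB) ⟨L.t, L.t_mem_CB⟩ from Subtype.ext hc.eq) L.pr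
  have four : ∀ {g : G} (hg : g ∈ L.CB), g ^ 4 = 1 → (h⁻¹ * L.pr ⟨g, hg⟩ * h) ^ 4 = 1 := by
    intro g hg h4
    have := conj_pow (a := h⁻¹) (b := L.pr ⟨g, hg⟩) (i := 4)
    rw [inv_inv] at this
    rw [this, ← map_pow, show (⟨g, hg⟩ : L.CB) ^ 4 = 1 from Subtype.ext h4, map_one]
    group
  have x81 : Commute x (el 81) := pull hpB (hh.symm ▸ pr_t hpB pt)
  have y81 : Commute y (el 81) := pull hqB (hh.symm ▸ pr_t hqB qt)
  have x9 : Commute x (el 9) := by
    refine pull hpB ?_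
    rcases hh9 with e | e <;> rw [e]
    · exact pr_c hpB p0
    · rw [L.bar_neg]; exact (pr_c hpB p0).inv_right
  have y27 : Commute y (el 27) := by
    refine pull hqB ?_
    rcases hh27 with e | e <;> rw [e]
    · exact pr_c hqB q3
    · rw [L.bar_neg]; exact (pr_c hqB q3).inv_right
  have si : s⁻¹ = s := inv_eq_of_mul_eq_one_right S.sq
  set y' : L.XB := s * y * s⁻¹ with hy'
  have y'81 : Commute y' (el 81) := by
    have := y81.conj s
    rwa [show s * el 81 * s⁻¹ = el 81 by rw [S.z, mul_inv_cancel_right]] at this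
  have y'9 : Commute y' (el 9) := by
    have h1 := y27.conj s
    rw [← chk_vi.2.2.2.2, S.act 9 (by norm_num), app_sw_nine.1, ← app_sw_nine.2,
      C.el_vadd (by norm_num) (by norm_num), chk_vi.2.2.1] at h1
    have h2 : (el 9) = ((el 9) * (el 9))⁻¹ := by
      refine eq_inv_of_mul_eq_one_left ?_
      rw [C.mul 9 (by norm_num) 9 (by norm_num), C.mul 9 (by norm_num) _ (by decide +kernel),
        show T 9 (T 9 9) = 0 by decide +kernel, C.el_zero]
    rw [h2]
    exact h1.inv_right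
  have code : ∀ {b : L.XB}, Commute b (el 9) → Commute b (el 81) → b ^ 4 = 1 → ∃ k < 24, b = el (27 * k) := by
    intro b b9 b81 b4
    obtain ⟨i, hi, rfl⟩ := (C.mem b).1 b9.eq
    refine ⟨i / 27, by omega, ?_⟩
    rw [code_quat i hi ((C.comm_iff hi (by norm_num)).1 b81.eq) ?_]
    refine C.inj _ (T_lt (T_lt hi hi) (T_lt hi hi)) _ (by norm_num) ?_
    rw [← C.mul _ (T_lt hi hi) _ (T_lt hi hi), ← C.mul i hi i hi, C.el_zero, ← b4,
      show (4 : ℕ) = 2 + 2 from rfl, pow_add, pow_two]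
  obtain ⟨k, hk, hxk⟩ := code x9 x81 (four hpB hp)
  obtain ⟨l, hl, hyl⟩ := code y'9 y'81 (by
    rw [hy', conj_pow, four hqB hq, mul_one, mul_inv_cancel])
  have hyv : y = s * el (27 * l) * s⁻¹ := by
    rw [← hyl, hy']
    calc y = s * s * y * (s * s) := by rw [S.sq, one_mul, mul_one]
      _ = _ := by rw [si]; group
  have hxy : Commute x y := by rw [hxk, hyv]; exact hcomm k hk l hl
  have hpq : Commute (L.pr ⟨p, hpB⟩) (L.pr ⟨q, hqB⟩) := by
    have := hxy.conj h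
    rwa [show h * x * h⁻¹ = L.pr ⟨p, hpB⟩ by rw [hx]; group,
      show h * y * h⁻¹ = L.pr ⟨q, hqB⟩ by rw [hy]; group] at this
  rw [Commute, SemiconjBy, ← map_mul, ← map_mul, L.pr_eq] at hpq
  obtain ⟨i, hi⟩ := hpq
  have hi' : p * q = q * p * L.el (i • e2) := hi
  have hcq : Commute q (L.el (i • e2)) := by rw [L.el_smul]; exact q2.pow_right _
  have hcp : Commute p (L.el (i • e2)) := by rw [L.el_smul]; exact p2.pow_right _
  have h1 : p * q * p⁻¹ = q * L.el (i • e2) := by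
    rw [hi', mul_assoc (q * p), hcp.symm.inv_right.eq, ← mul_assoc, mul_inv_cancel_right]
  have h4 : L.el (i • e2) ^ 4 = 1 := by
    have := conj_pow (a := p) (b := q) (i := 4)
    rw [h1, hcq.mul_pow, hq, one_mul, mul_one, mul_inv_cancel] at this
    exact this
  have h0 : L.el (i • e2) = 1 := by
    have h3 := L.el_cube (i • e2)
    calc L.el (i • e2) = L.el (i • e2) ^ 4 * (L.el (i • e2) ^ 3)⁻¹ := by group
      _ = 1 := by rw [h4, h3]; group
  rw [h0, mul_one] at hi'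
  exact hi'

end Loc

end Cfsg.Agent.Co2Three
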