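import Cfsg.Agent.Lib.Co2Three.Quot.Model

/-!
The centraliser of two of the reflections in the model: it has 96 elements, a four group on top of the two
reflections, extended by the symmetric group of the point fixed by both.
-/

set_option autoImplicit false
set_option maxRecDepth 100000
set_option linter.style.haveILetI false

namespace Cfsg.Agent.Co2Three.Quot

open Cfsg.Agent.CosetCert Cfsg.Agent.S3342Id Cfsg.Agent.S3342Id.Closure Cfsg.Agent.S3342Id.Seven

/-- The word of the point fixed by both reflections. -/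
def w16 : List ℕ := wPt 16

/-- The word of the involution moving the plane, and of its conjugates by the point. -/
def wv : ℕ → List ℕ
  | 0 => []
  | 1 => [3, 5]
  | 2 => w16 ++ [3, 5] ++ w16.reverse
  | _ => w16 ++ (w16 ++ [3, 5] ++ w16.reverse) ++ w16.reverse

/-- The involution moving the plane. -/
def yv : Closure.W := pW [3, 5]

/-- The word of an element centralising both reflections, by its five coordinates. -/
def wDec (p : ℕ × ℕ × ℕ × ℕ × ℕ) : List ℕ :=
  wpow [0] p.1 ++ wpow u13 p.2.1 ++ wv p.2.2.1 ++ wpow w16 p.2.2.2.1 ++ wpow [3] p.2.2.2.2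

/-- The coordinates. -/
def coords : List (ℕ × ℕ × ℕ × ℕ × ℕ) :=
  (List.range 2).flatMap fun a => (List.range 2).flatMap fun b => (List.range 4).flatMap fun i =>
    (List.range 3).flatMap fun j => (List.range 2).map fun c => (a, b, i, j, c)

/-- Conjugators of the second reflection centralising the first. -/
def movers : List (List ℕ) := [
  [],
  [2],
  [6],
  [2, 6],
  [3, 2],
  [5, 6],
  [2, 5, 6],
  [3, 2, 6],
  [3, 2, 5, 6],
  [1, 0, 2, 1, 5, 1, 0, 2, 1],
  [1, 0, 2, 1, 0, 5, 1, 0, 2, 1],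
  [1, 0, 3, 2, 1, 5, 1, 0, 2, 1],
  [1, 0, 2, 1, 5, 1, 0, 2, 1, 3, 2, 6],
  [1, 0, 2, 1, 5, 1, 0, 2, 1, 3, 2, 5, 6],
  [1, 0, 2, 1, 6, 5, 1, 0, 2, 1, 3, 2, 5, 6]]

theorem y_ok : eqC ([3, 5] ++ [3, 5]) [] && eqC ([3, 5] ++ [0]) ([0] ++ [3, 5]) &&
    eqC ([3, 5] ++ u13) (u13 ++ [3, 5]) && eqC ([3, 5] ++ [3]) ([3] ++ [3, 5]) &&
    eqC (w16 ++ [0]) ([0] ++ w16) && eqC (w16 ++ u13) (u13 ++ w16) && eqC (wv 1 ++ wv 2) (wv 3) &&
    eqC (wv 2 ++ wv 1) (wv 3) && eqC ([3] ++ w16 ++ [3]) w16.reverse && eqC (w16 ++ w16 ++ w16) [] = true := by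
  decide +kernel

theorem y_facts : yv * yv = 1 ∧ yv * r19 = r19 * yv ∧ yv * r13 = r13 * yv ∧ yv * r16 = r16 * yv ∧
    pt 16 * r19 = r19 * pt 16 ∧ pt 16 * r13 = r13 * pt 16 ∧
    yv * (pt 16 * yv * (pt 16)⁻¹) = pt 16 * (pt 16 * yv * (pt 16)⁻¹) * (pt 16)⁻¹ ∧
    pt 16 * yv * (pt 16)⁻¹ * yv = pt 16 * (pt 16 * yv * (pt 16)⁻¹) * (pt 16)⁻¹ ∧
    r16 * pt 16 * r16 = (pt 16)⁻¹ ∧ pt 16 * pt 16 * pt 16 = 1 := by
  have h := y_ok
  simp only [Bool.and_eq_true, wv, w16] at h
  obtain ⟨⟨⟨⟨⟨⟨⟨⟨⟨a, b⟩, c⟩, d⟩, e⟩, f⟩, g⟩, i⟩, j⟩, k⟩ := h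
  refine ⟨?_, ?_, ?_, ?_, ?_, ?_, ?_, ?_, ?_, ?_⟩ <;>
    simp only [yv, r19, r13, r16, ← pW_wPt, ← pW_append, ← pW_nil, ← pW_reverse]
  exacts [eqC_spec a, eqC_spec b, eqC_spec c, eqC_spec d, eqC_spec e, eqC_spec f, eqC_spec g, eqC_spec i,
    eqC_spec j, eqC_spec k]

/-- Two words with different codes. -/
def neC (u w : List ℕ) : Bool :=
  (u.all fun i => six.contains i) && (w.all fun i => six.contains i) && !Nat.beq (wcF u) (wcF w)

theorem neC_ne {u w : List ℕ} (h : neC u w = true) : pW u ≠ pW w := by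
  simp only [neC, Bool.and_eq_true, Bool.not_eq_true'] at h
  exact neC_spec h.1.1 h.1.2 h.2

theorem moved : ((List.range 27).all fun v => neC ([3, 5] ++ wPt 3 ++ [3, 5]) (wPt v)) = true := by decide +kernel

/-- The involution moves a point of the plane out of the coordinate space. -/
theorem yv_moves : ∀ v < 27, yv * pt 3 * yv ≠ pt v := by
  intro v hv
  simp only [yv, ← pW_wPt, ← pW_append]
  exact neC_ne (List.all_eq_true.1 moved v (List.mem_range.2 hv))

theorem free_ok : ([[], [0], u13, [0] ++ u13].all fun k =>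
    neC ([3, 5] ++ w16) (k ++ w16 ++ [3, 5])) = true := by decide +kernel

/-- The involution does not commute with the fixed point, even modulo the two reflections. -/
theorem yv_free : ∀ k ∈ ([1, r19, r13, r19 * r13] : List Closure.W), yv * pt 16 ≠ k * pt 16 * yv := by
  intro k hk
  have h := free_ok
  simp only [List.all_cons, List.all_nil, Bool.and_eq_true, Bool.and_true] at h
  simp only [List.mem_cons, List.not_mem_nil, or_false] at hk
  have hw : pt 16 = pW w16 := (pW_wPt 16).symm
  rcases hk with rfl | rfl | rfl | rfl <;>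
    simp only [yv, r19, r13, hw, ← pW_append, ← pW_nil]
  exacts [neC_ne h.1, neC_ne h.2.1, neC_ne h.2.2.1, neC_ne h.2.2.2]

theorem dec_cent : (coords.all fun p => eqC (wDec p ++ [0]) ([0] ++ wDec p) &&
    eqC (wDec p ++ u13) (u13 ++ wDec p)) = true := by decide +kernel

theorem dec_nodup : (List.map (fun p => wcF (wDec p)) coords).Nodup := by decide +kernel

theorem movers_cent : (movers.all fun w => eqC (w ++ [0]) ([0] ++ w)) = true := by decide +kernel

theorem movers_six : (movers.all fun w => (w ++ u13 ++ w.reverse).all fun i => six.contains i) = true := by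
  decide +kernel

theorem movers_nodup : (List.map (fun w => wcF (w ++ u13 ++ w.reverse)) movers).Nodup := by decide +kernel

theorem coords_six : (coords.all fun p => (wDec p).all fun i => six.contains i) = true := by decide +kernel

/-- The centraliser of the two reflections. -/
abbrev C2 : Subgroup Closure.W := Subgroup.centralizer ({r19} : Set Closure.W) ⊓ Subgroup.centralizer {r13}

theorem mem_C2 {p : ℕ × ℕ × ℕ × ℕ × ℕ} (hp : p ∈ coords) : pW (wDec p) ∈ C2 := by
  have h := List.all_eq_true.1 dec_cent p hp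
  simp only [Bool.and_eq_true] at h
  refine Subgroup.mem_inf.2 ⟨Subgroup.mem_centralizer_singleton_iff.2 ?_,
    Subgroup.mem_centralizer_singleton_iff.2 ?_⟩ <;> simp only [r19, r13, ← pW_append]
  exacts [eqC_spec h.1, eqC_spec h.2]

theorem code_inj {u w : List ℕ} (hu : u.all (fun i => six.contains i) = true)
    (hw : w.all (fun i => six.contains i) = true) (h : pW u = pW w) : wcF u = wcF w := by
  simp only [List.all_eq_true, List.contains_iff_mem] at hu hw
  rw [wcF_eq hu, wcF_eq hw]
  exact rep_unique (pW_val hu) (h ▸ pW_val hw)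

theorem card_C2 : Nat.card C2 ≤ 96 := by
  have hm : ∀ i : Fin movers.length, pW movers[i.val] ∈ Subgroup.centralizer ({r19} : Set Closure.W) := fun i => by
    refine Subgroup.mem_centralizer_singleton_iff.2 ?_
    simp only [r19, ← pW_append]
    exact eqC_spec (List.all_eq_true.1 movers_cent _ (List.getElem_mem i.isLt))
  let F : Fin movers.length × C2 → Subgroup.centralizer ({r19} : Set Closure.W) := fun p =>
    ⟨pW movers[p.1.val] * p.2.1, mul_mem (hm p.1) (Subgroup.mem_inf.1 p.2.2).1⟩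
  have hF : Function.Injective F := by
    rintro ⟨i, x, hx⟩ ⟨j, x', hx'⟩ e
    have e' : pW movers[i.val] * x = pW movers[j.val] * x' := congrArg Subtype.val e
    have conj : ∀ {k : Fin movers.length} {z : Closure.W}, z ∈ C2 →
        pW movers[k.val] * z * r13 * (pW movers[k.val] * z)⁻¹ =
          pW (movers[k.val] ++ u13 ++ movers[k.val].reverse) := fun {k z} hz => by
      rw [pW_append, pW_append, pW_reverse, ← r13, mul_assoc (pW _) z r13,
        Subgroup.mem_centralizer_singleton_iff.1 (Subgroup.mem_inf.1 hz).2]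
      group
    have h1 := conj (k := i) hx
    rw [e', conj (k := j) hx'] at h1
    have hc := code_inj (List.all_eq_true.1 movers_six _ (List.getElem_mem j.isLt))
      (List.all_eq_true.1 movers_six _ (List.getElem_mem i.isLt)) h1
    have hij : j.val = i.val :=
      (movers_nodup.getElem_inj_iff (hi := by rw [List.length_map]; exact j.isLt)
        (hj := by rw [List.length_map]; exact i.isLt)).1 (by rw [List.getElem_map, List.getElem_map]; exact hc)
    obtain rfl : j = i := Fin.ext hij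
    exact Prod.ext rfl (Subtype.ext (mul_left_cancel e'))
  have h := (Nat.card_le_card_of_injective F hF).trans card_cent_le
  rw [Nat.card_prod, Nat.card_fin, show movers.length = 15 from rfl] at h
  omega

/-- The coordinates of an element centralising the two reflections. -/
theorem exists_dec {x : Closure.W} (h19 : x * r19 = r19 * x) (h13 : x * r13 = r13 * x) :
    ∃ a < 2, ∃ b < 2, ∃ i < 4, ∃ j < 3, ∃ c < 2,
      x = r19 ^ a * r13 ^ b * pW (wv i) * pt 16 ^ j * r16 ^ c := by
  let F : Fin coords.length → C2 := fun k => ⟨pW (wDec coords[k.val]), mem_C2 (List.getElem_mem k.isLt)⟩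
  have hF : Function.Injective F := fun k l e => by
    have hc := code_inj (List.all_eq_true.1 coords_six _ (List.getElem_mem k.isLt))
      (List.all_eq_true.1 coords_six _ (List.getElem_mem l.isLt)) (congrArg Subtype.val e)
    exact Fin.ext ((dec_nodup.getElem_inj_iff (hi := by rw [List.length_map]; exact k.isLt)
      (hj := by rw [List.length_map]; exact l.isLt)).1 (by rw [List.getElem_map, List.getElem_map]; exact hc))
  have hb := hF.bijective_of_nat_card_le (by
    rw [Nat.card_fin, show coords.length = 96 by decide +kernel]; exact card_C2)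
  obtain ⟨k, hk⟩ := hb.2 ⟨x, Subgroup.mem_inf.2 ⟨Subgroup.mem_centralizer_singleton_iff.2 h19,
    Subgroup.mem_centralizer_singleton_iff.2 h13⟩⟩
  have hmem : coords[k.val] ∈ coords := List.getElem_mem k.isLt
  have hx : pW (wDec coords[k.val]) = x := congrArg Subtype.val hk
  revert hmem hx
  generalize coords[k.val] = p
  intro hmem hx
  obtain ⟨a, b, i, j, c⟩ := p
  simp only [coords, List.mem_flatMap, List.mem_map, List.mem_range, Prod.mk.injEq] at hmem
  obtain ⟨_, ha, _, hb', _, hi, _, hj, _, hc, rfl, rfl, rfl, rfl, rfl⟩ := hmem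
  refine ⟨_, ha, _, hb', _, hi, _, hj, _, hc, ?_⟩
  rw [← hx, ← pW_wPt 16]
  simp only [wDec, pW_append, pW_wpow, r19, r13, r16, w16]

/-- A word of the reflection exchanging the second and the third. -/
def wk : List ℕ := [0, 1, 0, 2, 1, 0, 5, 1, 0, 2, 1, 5]

/-- The reflection exchanging the second and the third. -/
def kv : Closure.W := pW wk

theorem kv_ok : eqC (wk ++ wk) [] && eqC (wk ++ [0] ++ wk) [0] && eqC (wk ++ u13 ++ wk) [3] &&
    eqC (wk ++ [3, 5] ++ wk) ([3, 5] ++ u13 ++ [3]) && eqC (wk ++ wPt 1 ++ wk) (wPt 1) &&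
    eqC (wk ++ wPt 3 ++ wk) (wPt 6) && eqC (wk ++ wPt 9 ++ wk) (wPt 9) = true := by decide +kernel

theorem kv_facts : kv * kv = 1 ∧ kv * r19 * kv = r19 ∧ kv * r13 * kv = r16 ∧ kv * yv * kv = yv * r13 * r16 ∧
    kv * pt 1 * kv = pt 1 ∧ kv * pt 3 * kv = pt 6 ∧ kv * pt 9 * kv = pt 9 := by
  have h := kv_ok
  simp only [Bool.and_eq_true] at h
  obtain ⟨⟨⟨⟨⟨⟨a, b⟩, c⟩, d⟩, e⟩, f⟩, g⟩ := h
  refine ⟨?_, ?_, ?_, ?_, ?_, ?_, ?_⟩ <;>
    simp only [kv, yv, r19, r13, r16, ← pW_wPt, ← pW_append, ← pW_nil]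
  exacts [eqC_spec a, eqC_spec b, eqC_spec c, eqC_spec d, eqC_spec e, eqC_spec f, eqC_spec g]

/-- An element of order five centralising the first reflection. -/
def w5 : List ℕ := [1, 0, 2, 1, 0, 5, 1, 0, 2, 1, 3, 6]

theorem five_ok : eqC (w5 ++ [0]) ([0] ++ w5) && eqC (wpow w5 5) [] && neC w5 [] = true := by decide +kernel

theorem five_cent : 5 ∣ Nat.card ↥(Subgroup.centralizer ({r19} : Set Closure.W)) := by
  have h := five_ok
  simp only [Bool.and_eq_true] at h
  have h5 : pW w5 ^ 5 = 1 := by rw [← pW_wpow, ← pW_nil]; exact eqC_spec h.1.2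
  have h1 : pW w5 ≠ 1 := by rw [← pW_nil]; exact neC_ne h.2
  haveI : Fact (Nat.Prime 5) := ⟨by norm_num⟩
  have hmem : pW w5 ∈ Subgroup.centralizer ({r19} : Set Closure.W) := by
    refine Subgroup.mem_centralizer_singleton_iff.2 ?_
    simp only [r19, ← pW_append]
    exact eqC_spec h.1.1
  rw [← orderOf_eq_prime h5 h1]
  exact Subgroup.orderOf_dvd_natCard _ hmem

end Cfsg.Agent.Co2Three.Quot
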