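import Cfsg.Agent.Lib.Co2Three.Mid.Defs
import Cfsg.Agent.Lib.Co2Three.Tools.Sim
import Mathlib.GroupTheory.Sylow

/-!
The similitudes commuting with the reflection are induced inside the centraliser of `t`; the three classes of
non-zero vectors of the fixed plane.
-/

set_option autoImplicit false
set_option linter.style.haveILetI false

namespace Cfsg.Agent.Co2Three.Quot

open Subgroup Matrix

variable {G : Type*} [Group G] [Finite G] (L : Loc G)

theorem el_zero : L.el 0 = 1 := by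
  have h := L.el_add 0 0
  rw [add_zero] at h
  exact mul_eq_left.1 h.symm

theorem el_neg (v : V4) : L.el (-v) = (L.el v)⁻¹ :=
  eq_inv_of_mul_eq_one_left (by rw [← L.el_add, neg_add_cancel, el_zero])

theorem el_comm (u v : V4) : Commute (L.el u) (L.el v) := by
  show L.el u * L.el v = L.el v * L.el u
  rw [← L.el_add, ← L.el_add, add_comm]

theorem el_pow3 (v : V4) : L.el v ^ 3 = 1 := by
  rw [pow_three', ← L.el_add, ← L.el_add,
    show v + v + v = 0 from funext fun i => (show ∀ a : ZMod 3, a + a + a = 0 by decide) (v i), el_zero]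

theorem orderOf_el {v : V4} (hv : v ≠ 0) : orderOf (L.el v) = 3 := by
  haveI : Fact (Nat.Prime 3) := ⟨Nat.prime_three⟩
  exact orderOf_eq_prime (el_pow3 L v) fun h => hv (L.el_inj (h.trans (el_zero L).symm))

theorem refl1_fix {v : V4} (h : v 1 = 0) : refl1 v = v := by
  funext i
  fin_cases i <;> simp [refl1, h]

theorem plane_of_fix : ∀ v : V4, refl1 v = v → v 1 = 0 := by decide +kernel

theorem comm_t {v : V4} (h : v 1 = 0) : Commute (L.el v) L.t := by
  have := mul_inv_eq_iff_eq_mul.1 (L.t_act v)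
  rw [refl1_fix h] at this
  exact this.symm

theorem chk_w : ∀ w : V4, w + refl1 w = 0 →
    ∃ z : V4, -z + (w + refl1 z) = 0 := by decide +kernel

/-- **Lifts inside the centraliser of `t`.** -/
theorem exists_lift (M : Matrix (Fin 4) (Fin 4) (ZMod 3)) (hM : IsSim M)
    (hr : ∀ v, M.mulVec (refl1 v) = refl1 (M.mulVec v)) :
    ∃ g ∈ centralizer ({L.t} : Set G), ∀ v, g * L.el v * g⁻¹ = L.el (M.mulVec v) := by
  obtain ⟨g, hg⟩ := L.realise M hM
  have hinj : Function.Injective M.mulVec := fun u w h => L.el_inj (by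
    have h' : g * L.el u * g⁻¹ = g * L.el w * g⁻¹ := by rw [hg, hg, h]
    exact mul_left_cancel (mul_right_cancel h'))
  have ti : L.t⁻¹ = L.t := inv_eq_of_mul_eq_one_right L.t_sq
  obtain ⟨w, hw⟩ := L.cent_J (g * L.t * g⁻¹ * L.t⁻¹) fun v => by
    obtain ⟨u, rfl⟩ := (Finite.injective_iff_surjective.1 hinj) v
    refine mul_inv_eq_iff_eq_mul.1 ?_
    calc g * L.t * g⁻¹ * L.t⁻¹ * L.el (M.mulVec u) * (g * L.t * g⁻¹ * L.t⁻¹)⁻¹
        = g * L.t * g⁻¹ * (L.t⁻¹ * L.el (M.mulVec u) * L.t) * (g * L.t⁻¹ * g⁻¹) := by group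
      _ = g * L.t * g⁻¹ * (L.t * L.el (M.mulVec u) * L.t⁻¹) * (g * L.t⁻¹ * g⁻¹) := by simp only [ti]
      _ = g * L.t * (g⁻¹ * L.el (M.mulVec (refl1 u)) * g) * L.t⁻¹ * g⁻¹ := by rw [L.t_act, hr]; group
      _ = g * (L.t * L.el (refl1 u) * L.t⁻¹) * g⁻¹ := by rw [← hg]; group
      _ = L.el (M.mulVec u) := by
          rw [L.t_act, hg, show refl1 (refl1 u) = u from funext fun i => by fin_cases i <;> simp [refl1]]
  have he : g * L.t * g⁻¹ = L.el w * L.t := by rw [← hw]; group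
  have hsq : L.el (w + refl1 w) = 1 := by
    rw [L.el_add, ← L.t_act, ti]
    calc L.el w * (L.t * L.el w * L.t) = (g * L.t * g⁻¹) * (g * L.t * g⁻¹) := by rw [he]; group
      _ = g * (L.t * L.t) * g⁻¹ := by group
      _ = 1 := by rw [L.t_sq, mul_one, mul_inv_cancel]
  obtain ⟨z, hz⟩ := chk_w w (L.el_inj (hsq.trans (el_zero L).symm))
  refine ⟨L.el (-z) * g, mem_centralizer_singleton_iff.2 (mul_inv_eq_iff_eq_mul.1 ?_), fun v => ?_⟩
  · calc L.el (-z) * g * L.t * (L.el (-z) * g)⁻¹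
        = L.el (-z) * (L.el w * (L.t * L.el z * L.t⁻¹)) * L.t := by
          rw [el_neg, mul_inv_rev, inv_inv, show (L.el z)⁻¹ * g * L.t * (g⁻¹ * L.el z) =
            (L.el z)⁻¹ * (g * L.t * g⁻¹) * L.el z by group, he]
          group
      _ = L.t := by rw [L.t_act, ← L.el_add, ← L.el_add, hz, el_zero, one_mul]
  · rw [← hg v, el_neg]
    have h := (el_comm L z (M.mulVec v)).eq
    calc (L.el z)⁻¹ * g * L.el v * ((L.el z)⁻¹ * g)⁻¹ = (L.el z)⁻¹ * (g * L.el v * g⁻¹) * L.el z := by group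
      _ = g * L.el v * g⁻¹ := by rw [hg, mul_assoc, ← h, inv_mul_cancel_left]

/-- The point of the plane with the given coordinates. -/
abbrev pl (a c d : ZMod 3) : V4 := ![a, 0, c, d]

theorem eq_pl {v : V4} (h : v 1 = 0) : ∃ a c d, v = pl a c d :=
  ⟨v 0, v 2, v 3, funext fun i => by fin_cases i <;> simp [h]⟩

/-- The reflection in a vector, as a function. -/
def rf (r v : V4) : V4 := v - (bf v r * qf r) • r

/-- The reflection in a vector. -/
def rfM (r : V4) : Matrix (Fin 4) (Fin 4) (ZMod 3) := Matrix.of fun i j => rf r (Pi.single j 1) i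

theorem rfM_mulVec (r v : V4) : (rfM r).mulVec v = rf r v := by
  funext i
  simp only [rfM, Matrix.mulVec, dotProduct, Matrix.of_apply, Fin.sum_univ_four]
  fin_cases i <;> simp [rf, bf] <;> ring

theorem chk_rf : ∀ a c d : ZMod 3, qf (pl a c d) ≠ 0 → ∀ v : V4,
    qf (rf (pl a c d) v) = qf v ∧ rf (pl a c d) (refl1 v) = refl1 (rf (pl a c d) v) := by decide +kernel

/-- A list of similitudes of the plane, applied from the right. -/
def rfs : List (ZMod 3 × ZMod 3 × ZMod 3) → V4 → V4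
  | [], v => v
  | p :: l, v => rf (pl p.1 p.2.1 p.2.2) (rfs l v)

theorem chk_class : ∀ a c d : ZMod 3, pl a c d = 0 ∨
    (qf (pl a c d) = 0 ∧ ∃ r s, qf (pl r.1 r.2.1 r.2.2) ≠ 0 ∧ qf (pl s.1 s.2.1 s.2.2) ≠ 0 ∧
      rfs [r, s] e0 = pl a c d) ∨
    (qf (pl a c d) = -1 ∧ ∃ r s, qf (pl r.1 r.2.1 r.2.2) ≠ 0 ∧ qf (pl s.1 s.2.1 s.2.2) ≠ 0 ∧
      rfs [r, s] e2 = pl a c d) ∨
    (qf (pl a c d) = 1 ∧ ∃ r s, qf (pl r.1 r.2.1 r.2.2) ≠ 0 ∧ qf (pl s.1 s.2.1 s.2.2) ≠ 0 ∧
      rfs [r, s] ci = pl a c d) := by decide +kernel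

variable {L} {W : Subgroup G} (M : Mid L W)
include M

omit M in
/-- The elements of the plane centralise `t`. -/
theorem el_cent {v : V4} (h : v 1 = 0) : L.el v ∈ centralizer ({L.t} : Set G) :=
  mem_centralizer_singleton_iff.2 (comm_t L h).eq

theorem el_mem {v : V4} (h : v 1 = 0) : L.el v ∈ normalizer (W : Set G) ⊓ centralizer ({L.t} : Set G) :=
  ⟨M.plane v h, el_cent h⟩

/-- A similitude of the plane is induced by the normaliser of `W`. -/
theorem exists_lift_mem (A : Matrix (Fin 4) (Fin 4) (ZMod 3)) (hA : IsSim A)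
    (hr : ∀ v, A.mulVec (refl1 v) = refl1 (A.mulVec v)) :
    ∃ g ∈ normalizer (W : Set G) ⊓ centralizer ({L.t} : Set G), ∀ v, g * L.el v * g⁻¹ = L.el (A.mulVec v) := by
  obtain ⟨g, hg, ha⟩ := exists_lift L A hA hr
  exact ⟨g, ⟨M.norm_plane g hg fun v _ => ⟨_, ha v⟩, hg⟩, ha⟩

/-- The element inverting the plane. -/
theorem exists_inverting :
    ∃ g ∈ normalizer (W : Set G) ⊓ centralizer ({L.t} : Set G), ∀ v, g * L.el v * g⁻¹ = (L.el v)⁻¹ := by
  obtain ⟨g, hg, ha⟩ := exists_lift_mem M (-1) (Or.inl fun v => by simp [Matrix.neg_mulVec, qf]) fun v => by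
    funext i
    simp only [Matrix.neg_mulVec, Matrix.one_mulVec, refl1, Pi.neg_apply]
    fin_cases i <;> simp
  exact ⟨g, hg, fun v => by rw [ha, Matrix.neg_mulVec, Matrix.one_mulVec, el_neg]⟩

/-- The three classes of non-zero vectors of the plane. -/
theorem classes {v : V4} (hv : v 1 = 0) (h0 : v ≠ 0) :
    ∃ r ∈ [e0, e2, ci], qf v = qf r ∧
      ∃ g ∈ normalizer (W : Set G) ⊓ centralizer ({L.t} : Set G), g * L.el r * g⁻¹ = L.el v ∧
        ∀ u : V4, u 1 = 0 → ∃ u' : V4, u' 1 = 0 ∧ g * L.el u * g⁻¹ = L.el u' := by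
  obtain ⟨a, c, d, rfl⟩ := eq_pl hv
  have key : ∀ r s : ZMod 3 × ZMod 3 × ZMod 3, qf (pl r.1 r.2.1 r.2.2) ≠ 0 → qf (pl s.1 s.2.1 s.2.2) ≠ 0 →
      ∃ g ∈ normalizer (W : Set G) ⊓ centralizer ({L.t} : Set G),
        ∀ v, g * L.el v * g⁻¹ = L.el (rfs [r, s] v) ∧ refl1 (rfs [r, s] v) = rfs [r, s] (refl1 v) := by
    intro r s hr hs
    have one : ∀ p : ZMod 3 × ZMod 3 × ZMod 3, qf (pl p.1 p.2.1 p.2.2) ≠ 0 →
        ∃ g ∈ normalizer (W : Set G) ⊓ centralizer ({L.t} : Set G),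
          ∀ v, g * L.el v * g⁻¹ = L.el (rf (pl p.1 p.2.1 p.2.2) v) := fun p hp => by
      obtain ⟨g, hg, ha⟩ := exists_lift_mem M (rfM (pl p.1 p.2.1 p.2.2))
        (Or.inl fun v => by rw [rfM_mulVec]; exact (chk_rf _ _ _ hp v).1)
        fun v => by rw [rfM_mulVec, rfM_mulVec]; exact (chk_rf _ _ _ hp v).2
      exact ⟨g, hg, fun v => by rw [ha, rfM_mulVec]⟩
    obtain ⟨g, hg, ga⟩ := one r hr
    obtain ⟨h, hh, ha⟩ := one s hs
    refine ⟨g * h, mul_mem hg hh, fun v => ⟨?_, ?_⟩⟩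
    · calc g * h * L.el v * (g * h)⁻¹ = g * (h * L.el v * h⁻¹) * g⁻¹ := by group
        _ = _ := by rw [ha, ga]; rfl
    · simp only [rfs]
      rw [(chk_rf _ _ _ hs v).2, (chk_rf _ _ _ hr _).2]
  have main : ∀ r₀ : V4, r₀ ∈ [e0, e2, ci] → qf (pl a c d) = qf r₀ → (∃ r s, qf (pl r.1 r.2.1 r.2.2) ≠ 0 ∧
      qf (pl s.1 s.2.1 s.2.2) ≠ 0 ∧ rfs [r, s] r₀ = pl a c d) →
      ∃ r ∈ [e0, e2, ci], qf (pl a c d) = qf r ∧
      ∃ g ∈ normalizer (W : Set G) ⊓ centralizer ({L.t} : Set G), g * L.el r * g⁻¹ = L.el (pl a c d) ∧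
        ∀ u : V4, u 1 = 0 → ∃ u' : V4, u' 1 = 0 ∧ g * L.el u * g⁻¹ = L.el u' := by
    rintro r₀ hm hq ⟨r, s, hr, hs, hrs⟩
    obtain ⟨g, hg, ga⟩ := key r s hr hs
    refine ⟨r₀, hm, hq, g, hg, by rw [(ga r₀).1, hrs], fun u hu => ⟨_, ?_, (ga u).1⟩⟩
    exact plane_of_fix _ ((ga u).2.trans (by rw [refl1_fix hu]))
  rcases chk_class a c d with h | ⟨hq, h⟩ | ⟨hq, h⟩ | ⟨hq, h⟩
  · exact absurd h h0
  · exact main e0 (by simp) (by rw [hq]; decide) h
  · exact main e2 (by simp) (by rw [hq]; decide) h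
  · exact main ci (by simp) (by rw [hq]; decide) h

omit M in
/-- Two elements of order three congruent modulo a normalised subgroup of order prime to three are conjugate by
an element of it. -/
theorem exists_conj_of_mod {N : Subgroup G} (hN : (Nat.card N).Coprime 3) {a b : G} (ha : orderOf a = 3)
    (hb : orderOf b = 3) (han : a ∈ normalizer (N : Set G)) (hab : a⁻¹ * b ∈ N) :
    ∃ w ∈ N, w * a * w⁻¹ = b := by
  classical
  haveI : Fact (Nat.Prime 3) := ⟨Nat.prime_three⟩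
  set H : Subgroup G := zpowers a ⊔ N with hH
  have hdec : ∀ h ∈ H, ∃ k : ℤ, ∃ w ∈ N, h = a ^ k * w := by
    intro h hh
    rw [hH, ← SetLike.mem_coe, coe_mul_of_left_le_normalizer_right _ _ (zpowers_le.2 han)] at hh
    obtain ⟨x, ⟨k, rfl⟩, w, hw, rfl⟩ := hh
    exact ⟨k, w, hw, rfl⟩
  have hbH : b ∈ H := by
    rw [show b = a * (a⁻¹ * b) by group]
    exact mul_mem (mem_sup_left (mem_zpowers a)) (mem_sup_right hab)
  have hdisj : ∀ x ∈ N, x ^ 3 = 1 → x = 1 := fun x hx h3 => by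
    rw [← orderOf_eq_one_iff]
    refine Nat.eq_one_of_dvd_coprimes hN ?_ (orderOf_dvd_of_pow_eq_one h3)
    rw [← Subgroup.orderOf_mk x hx]
    exact orderOf_dvd_natCard _
  have hcard : Nat.card H ∣ Nat.card N * 3 := by
    have h1 : 3 ∣ Nat.card H := by
      rw [← ha, ← Nat.card_zpowers]
      exact card_dvd_of_le le_sup_left
    have h2 : Nat.card N ∣ Nat.card H := card_dvd_of_le le_sup_right
    have h3 : Nat.card H ≤ Nat.card (zpowers a × N) :=
      Nat.card_le_card_of_surjective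
        (fun p => (⟨p.1 * p.2, mul_mem (mem_sup_left p.1.2) (mem_sup_right p.2.2)⟩ : H)) fun h => by
          obtain ⟨k, w, hw, e⟩ := hdec h h.2
          exact ⟨(⟨_, k, rfl⟩, ⟨w, hw⟩), Subtype.ext e.symm⟩
    rw [Nat.card_prod, Nat.card_zpowers, ha, mul_comm] at h3
    exact (le_antisymm h3 (Nat.le_of_dvd Nat.card_pos (hN.mul_dvd_of_dvd_of_dvd h2 h1))).symm ▸ dvd_rfl
  have hsyl : ∀ x : H, orderOf (x : G) = 3 → ∃ P : Sylow 3 H, (P : Subgroup H) = zpowers x := by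
    intro x hx
    have hc : Nat.card (zpowers x) = 3 := by rw [Nat.card_zpowers, ← Subgroup.orderOf_coe, hx]
    obtain ⟨P, hP⟩ := (IsPGroup.of_card (n := 1) (by rw [hc, pow_one] :
      Nat.card (zpowers x) = 3 ^ 1)).exists_le_sylow
    refine ⟨P, (eq_of_le_of_card_ge hP ?_).symm⟩
    rw [hc]
    obtain ⟨n, hn⟩ := P.isPGroup'.exists_card_eq
    rw [hn]
    have hd : 3 ^ n ∣ Nat.card N * 3 := hn ▸ (P : Subgroup H).card_subgroup_dvd_card.trans hcard
    have := Nat.le_of_dvd (by norm_num) ((Nat.Coprime.pow_left n hN.symm).dvd_of_dvd_mul_left hd)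
    exact this
  obtain ⟨P, hP⟩ := hsyl ⟨a, mem_sup_left (mem_zpowers a)⟩ ha
  obtain ⟨Q, hQ⟩ := hsyl ⟨b, hbH⟩ hb
  obtain ⟨h, hh⟩ := MulAction.exists_smul_eq H P Q
  obtain ⟨k, w, hw, hwe⟩ := hdec h h.2
  refine ⟨a ^ k * w * (a ^ k)⁻¹, (mem_normalizer_iff.1 (zpow_mem han k) w).1 hw, ?_⟩
  have hmem : MulAut.conj h • (⟨a, mem_sup_left (mem_zpowers a)⟩ : H) ∈ (Q : Subgroup H) := by
    rw [← hh]
    exact smul_mem_pointwise_smul _ (MulAut.conj h) _ (hP ▸ mem_zpowers _)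
  rw [hQ] at hmem
  obtain ⟨j, hj⟩ := hmem
  have hj' : b ^ j = a ^ k * w * a * (a ^ k * w)⁻¹ := by
    have := congrArg Subtype.val hj
    simpa [hwe] using this
  -- the exponent is one modulo three
  set x := a ^ k * w * (a ^ k)⁻¹ with hx
  have hxN : x ∈ N := (mem_normalizer_iff.1 (zpow_mem han k) w).1 hw
  have hxa : x * a * x⁻¹ = b ^ j := by rw [hj', hx]; group
  haveI : (N.subgroupOf (normalizer (N : Set G))).Normal := normal_in_normalizer
  let q := QuotientGroup.mk' (N.subgroupOf (normalizer (N : Set G)))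
  let A : ↥(normalizer (N : Set G)) := ⟨a, han⟩
  have hbn : b ∈ normalizer (N : Set G) := by
    rw [show b = a * (a⁻¹ * b) by group]
    exact mul_mem han (le_normalizer hab)
  let B : ↥(normalizer (N : Set G)) := ⟨b, hbn⟩
  let X : ↥(normalizer (N : Set G)) := ⟨x, le_normalizer hxN⟩
  have hqB : q A = q B := QuotientGroup.eq.2 hab
  have hqX : q X = 1 := (QuotientGroup.eq_one_iff _).2 hxN
  have hqe : q A = q A ^ j := by
    have e : X * A * X⁻¹ = B ^ j := Subtype.ext (by simpa [X, A, B] using hxa)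
    have := congrArg q e
    rwa [map_mul, map_mul, map_inv, map_zpow, hqX, one_mul, inv_one, mul_one, ← hqB] at this
  have hoA : orderOf (q A) = 3 := orderOf_eq_prime (by
    rw [← map_pow, show A ^ 3 = 1 from Subtype.ext (by
      show a ^ 3 = 1
      rw [← ha, pow_orderOf_eq_one]), map_one]) fun e => by
    have h1 : a = 1 := hdisj a ((QuotientGroup.eq_one_iff A).1 e) (by rw [← ha, pow_orderOf_eq_one])
    rw [h1, orderOf_one] at ha
    norm_num at ha
  have hj1 : (3 : ℤ) ∣ j - 1 := by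
    have h := orderOf_dvd_sub_iff_zpow_eq_zpow (x := q A) (a := j) (b := 1)
    rw [hoA, zpow_one] at h
    exact_mod_cast h.2 hqe.symm
  rw [hxa]
  conv_rhs => rw [← zpow_one b]
  refine orderOf_dvd_sub_iff_zpow_eq_zpow.1 ?_
  rw [hb]
  exact_mod_cast hj1

end Cfsg.Agent.Co2Three.Quot
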