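import Cfsg.Agent.Lib.Co2Three.Quot.Orbit
import Cfsg.Agent.Lib.S3342CentZ.Card
import Cfsg.Agent.Lib.S3342Id.LocalCent

/-!
The centralisers of the images of the points modulo the exterior point normalise the plane, so that the centraliser
of a reflection there is small.
-/

set_option autoImplicit false
set_option maxRecDepth 20000
set_option linter.style.haveILetI false
set_option linter.unusedSectionVars false

namespace Cfsg.Agent.Co2Three

open Subgroup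
open Cfsg.Agent.Hayden Cfsg.Agent.Hayden.Cfg

theorem int19 : ∀ a ∈ O8, vadd a 19 ∈ O8 ∨ vadd a (vneg 19) ∈ O8 := by decide +kernel

theorem int_v4 : ∀ u : V4, u 2 = 0 → qf u ≠ 0 → qf u ≠ 1 →
    ∃ a : V4, a 2 = 0 ∧ a ≠ 0 ∧ qf a = 0 ∧ qf (a + u) ≠ 0 ∧ qf (a - u) ≠ 0 := by decide +kernel

theorem int_shift : ∀ u : V4, u 2 = 0 → qf u = 1 → qf (u + e2) = 0 ∧ qf (u - e2) = 0 ∧
    bf (u + e2) e2 ≠ 0 ∧ u + e2 ≠ 0 ∧
    ∀ j : ZMod 3, qf (u + (j + 1) • e2) = 0 → qf (u + (j - 1) • e2) = 0 → j = 0 := by decide +kernel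

theorem pj_two : ∀ u : V4, (u + (-(u 2)) • e2 : V4) 2 = 0 := by decide +kernel

theorem add_two : ∀ u v : V4, u 2 = 0 → v 2 = 0 → (u + v) 2 = 0 ∧ (u - v) 2 = 0 := fun u v h1 h2 => by
  simp [h1, h2]

namespace Loc

variable {G : Type*} [Group G] [Finite G] (L : Loc G) {el : ℕ → L.XB}

theorem bar_pj (u : V4) : L.bar (u + (-(u 2)) • e2) = L.bar u := L.bar_eq.2 ⟨-(u 2), rfl⟩

theorem bar_orth {el : ℕ → L.XB} (hV : ∀ u, ∃ w < 27, el (vi w) = L.bar u) (C : Cfg el) {v : ℕ} (hv : v < 27) :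
    ∃ u : V4, u 2 = 0 ∧ el (vi v) = L.bar u := by
  have hle : L.JB ≤ C.VJ := by
    rintro _ ⟨u, rfl⟩
    obtain ⟨w, hw, e⟩ := hV u
    exact ⟨w, hw, e⟩
  have heq : L.JB = C.VJ := Subgroup.eq_of_le_of_card_ge hle (by rw [L.card_JB, C.card_VJ]; norm_num)
  obtain ⟨u, hu⟩ := heq.symm.le (show el (vi v) ∈ C.VJ from ⟨v, hv, rfl⟩)
  exact ⟨_, pj_two u, hu.symm.trans (L.bar_pj u).symm⟩

theorem VJ_eq {el : ℕ → L.XB} (hV : ∀ u, ∃ w < 27, el (vi w) = L.bar u) (C : Cfg el) : C.VJ = L.JB := by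
  refine (Subgroup.eq_of_le_of_card_ge ?_ (by rw [L.card_JB, C.card_VJ]; norm_num)).symm
  rintro _ ⟨u, rfl⟩
  obtain ⟨w, hw, e⟩ := hV u
  exact ⟨w, hw, e⟩

/-- The image of an element normalising the abelian group normalises its image. -/
theorem norm_JB {g : L.CB} (hg : L.Norms (g : G)) : L.pr g ∈ normalizer (L.JB : Set L.XB) := by
  refine mem_normalizer_iff.2 fun x => ⟨?_, ?_⟩
  · rintro ⟨u, rfl⟩
    obtain ⟨w, hw⟩ := hg u
    exact ⟨w, (L.pr_conj.2 ⟨0, by rw [zero_smul, add_zero, hw]⟩).symm⟩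
  · rintro ⟨u, hu⟩
    obtain ⟨w, hw⟩ := hg.inv L u
    refine ⟨w, ?_⟩
    have h := (L.pr_conj (g := g⁻¹) (u := u) (v := w)).2 ⟨0, by rw [zero_smul, add_zero]; exact_mod_cast hw⟩
    rw [← h, map_inv, hu]
    group

/-- The centraliser at an interior point normalises the plane. -/
theorem cent_19 (C : Cfg el) {a : V4} (ha : a = e0 ∨ a = -e0) (h9 : el 9 = L.bar a)
    (hO : ∀ v < 27, C.Orb v ↔ v ∈ O8) (hV : ∀ u, ∃ w < 27, el (vi w) = L.bar u) :
    cg el 19 ≤ normalizer (C.VJ : Set L.XB) := by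
  obtain ⟨u, hu2, hu⟩ := L.bar_orth hV C (show 19 < 27 by norm_num)
  have h19 : ¬ C.Orb 19 := fun h => absurd ((hO 19 (by norm_num)).1 h) (by decide)
  have hu0 : u ≠ 0 := fun e => by
    have h0 : L.bar (0 : V4) = el 0 := by
      rw [C.el_zero, bar]; exact L.pr_eq_one.2 ⟨0, by rw [zero_smul]⟩
    rw [e, h0, ← chk_vi.2.1] at hu
    exact absurd (C.vi_inj (by norm_num) (by norm_num) hu) (by norm_num)
  have hq0 : qf u ≠ 0 := fun hq => h19 ((L.orb_iff C ha h9 hu2 hu).2 ⟨hu0, hq⟩)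
  have hq : qf u = 1 := by
    by_contra h1
    obtain ⟨b, hb2, hb0, hbq, hp, hm⟩ := int_v4 u hu2 hq0 h1
    obtain ⟨w, hw, hwe⟩ := hV b
    have hwO := (hO w hw).1 ((L.orb_iff C ha h9 hb2 hwe).2 ⟨hb0, hbq⟩)
    rcases int19 w hwO with h | h
    · refine hp ((L.orb_iff C ha h9 (add_two b u hb2 hu2).1 ?_).1 ((hO _ (vadd_lt _ _)).2 h)).2
      rw [C.el_vadd hw (by norm_num), hwe, hu, ← L.bar_add]
    · refine hm ((L.orb_iff C ha h9 (add_two b u hb2 hu2).2 ?_).1 ((hO _ (vadd_lt _ _)).2 h)).2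
      rw [vneg, C.el_vadd hw (vadd_lt _ _), C.el_vadd (by norm_num) (by norm_num), hwe, hu, ← L.bar_add, ← L.bar_add]
      refine congrArg L.bar ?_
      have : ∀ x : ZMod 3, x + x = -x := by decide
      funext k
      simp [this, sub_eq_add_neg]
  intro x hx
  rw [cg, mem_centralizer_singleton_iff, hu] at hx
  obtain ⟨g, rfl⟩ := QuotientGroup.mk'_surjective L.NB x
  obtain ⟨j, hj⟩ := L.pr_conj.1 (mul_inv_eq_iff_eq_mul.2 hx)
  have hg : Commute (g : G) (L.el e2) := mem_centralizer_singleton_iff.1 g.2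
  obtain ⟨hp, hm, hbf, hne, huniq⟩ := int_shift u hu2 hq
  have move : ∀ i : ZMod 3, (g : G) * L.el (u + i • e2) * (g : G)⁻¹ = L.el (u + (j + i) • e2) := fun i => by
    rw [L.el_add u (i • e2), show (g : G) * (L.el u * L.el (i • e2)) * (g : G)⁻¹ =
      (g : G) * L.el u * (g : G)⁻¹ * ((g : G) * L.el (i • e2) * (g : G)⁻¹) by group, hj, L.el_smul i,
      (hg.pow_right _).eq, mul_inv_cancel_right, ← L.el_smul, ← L.el_add, add_assoc, ← add_smul]
  have hj0 : j = 0 := by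
    refine huniq j ?_ ?_
    · have h := move 1
      rw [one_smul] at h
      exact L.fused_sing hne hp h
    · have h := move (-1)
      rw [neg_smul, one_smul, ← sub_eq_add_neg, ← sub_eq_add_neg] at h
      have hne' : u - e2 ≠ 0 := fun e => by
        have := congrFun e 2
        rw [Pi.sub_apply, hu2, Pi.zero_apply] at this
        exact absurd this (by decide +kernel)
      exact L.fused_sing hne' hm h
  have h1 : Commute (g : G) (L.el (u + e2)) := by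
    have h := move 1
    rw [hj0, zero_add, one_smul] at h
    exact mul_inv_eq_iff_eq_mul.1 h
  rw [L.VJ_eq hV C]
  exact L.norm_JB (L.secant' hne hp hbf e2_facts.2.1 h1 hg)

/-- What is known at an exterior point. -/
theorem exists_small : ∃ (el : ℕ → L.XB) (C : Cfg el) (a : V4) (s m : L.XB), (a = e0 ∨ a = -e0) ∧
    el 9 = L.bar a ∧ (∀ v < 27, C.Orb v ↔ v ∈ O8) ∧ (∀ u, ∃ w < 27, el (vi w) = L.bar u) ∧
    C.Sw s ∧ C.Neg s m ∧ cg el 10 ≤ normalizer (C.VJ : Set L.XB) ∧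
    cg el 19 ≤ normalizer (C.VJ : Set L.XB) ∧
    (∀ k < 24, ∀ l < 24, Commute (el (27 * k)) (s * el (27 * l) * s⁻¹)) ∧
    Nat.card (S3342CentZ.cz el) ≤ 1152 := by
  obtain ⟨el, C, a, ha, h9, hO, hV⟩ := L.exists_el8
  obtain ⟨s, S⟩ := C.exists_sw (by simp : O8 ∈ [O4, O8]) hO
  obtain ⟨m, N⟩ := C.exists_neg hO S
  have h10 := S3342Id.LocalCent.cent_10_le_O8 C hO
  have h19 := L.cent_19 C ha h9 hO hV
  obtain ⟨hcomm, hcz⟩ := S3342CentZ.small_facts C S N hO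
    (fun g hg => h10 (mem_centralizer_singleton_iff.2 hg.eq))
    fun g hg => h19 (mem_centralizer_singleton_iff.2 hg.eq)
  exact ⟨el, C, a, s, m, ha, h9, hO, hV, S, N, h10, h19, hcomm, hcz⟩

end Loc

end Cfsg.Agent.Co2Three
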