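import Cfsg.Agent.Lib.Co2Three.Quot.Six
import Cfsg.Agent.Lib.Co2Three.Close.CoordsM
import Cfsg.Agent.Lib.Co2Three.Close.Defs
import Cfsg.Agent.Lib.S3342Id.Sp62Pres

/-!
The data of the closing step from what is known at the involution.
-/

set_option autoImplicit false
set_option maxRecDepth 20000
set_option synthInstance.maxSize 10000
set_option linter.style.haveILetI false

namespace Cfsg.Agent.Co2Three.Quot

open Subgroup
open Cfsg.Agent.Co2Recog (Sp63)

variable {G : Type*} [Group G] [Finite G] {L : Loc G} {W : Subgroup G} (M : Mid L W)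
include M

/-- The quotient of the normaliser by `W`. -/
theorem quot_iso : Nonempty (Gb L.t W ≃* Matrix.symplecticGroup (Fin 3) (ZMod 2)) := (six M).1

/-- The centraliser of a point of the plane normalises `W`. -/
theorem cent_le {u : V4} (hu : u 1 = 0) (hu0 : u ≠ 0) :
    centralizer ({L.el u} : Set G) ⊓ centralizer {L.t} ≤ normalizer (W : Set G) := by
  obtain ⟨r, hr, -, g, hg, hge, -⟩ := classes M hu hu0
  have hr' : centralizer ({L.el r} : Set G) ⊓ centralizer {L.t} ≤ normalizer (W : Set G) := by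
    simp only [List.mem_cons, List.not_mem_nil, or_false] at hr
    rcases hr with rfl | rfl | rfl
    · exact M.cent_singular
    · exact M.cent_exterior
    · exact (six M).2
  intro x hx
  have hg1 : g ∈ normalizer (W : Set G) := hg.1
  have hg2 : g ∈ centralizer ({L.t} : Set G) := hg.2
  have hx2 : x ∈ centralizer ({L.t} : Set G) := hx.2
  have h2 : g⁻¹ * x * g ∈ centralizer ({L.t} : Set G) := mul_mem (mul_mem (inv_mem hg2) hx2) hg2
  have h : g⁻¹ * x * g ∈ centralizer ({L.el r} : Set G) ⊓ centralizer {L.t} := by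
    refine ⟨mem_centralizer_singleton_iff.2 ?_, h2⟩
    have hc := (Commute.conj_iff g⁻¹).2 (show Commute x (L.el u) from mem_centralizer_singleton_iff.1 hx.1)
    rw [← hge, inv_inv, show g⁻¹ * (g * L.el r * g⁻¹) * g = L.el r by group] at hc
    exact hc.eq
  have := mul_mem (mul_mem hg1 (hr' h)) (inv_mem hg1)
  rwa [show g * (g⁻¹ * x * g) * g⁻¹ = x by group] at this

/-- An element of order three of the normaliser is conjugate in it to a point of the plane. -/
theorem exists_conj_plane {x : G} (hx : x ∈ NW L.t W) (h3 : orderOf x = 3) :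
    ∃ c ∈ NW L.t W, ∃ u : V4, u 1 = 0 ∧ u ≠ 0 ∧ c * x * c⁻¹ = L.el u := by
  obtain ⟨F⟩ := exists_frame M
  obtain ⟨e⟩ := quot_iso M
  have hxW : x ∉ W := fun hW => by
    have h := Nat.eq_one_of_dvd_coprimes (coprime_W M)
      (orderOf_mk _ hW ▸ orderOf_dvd_natCard (⟨x, hW⟩ : W)) (by rw [h3])
    rw [h3] at h
    norm_num at h
  have ho : orderOf (bar L.t W ⟨x, hx⟩) = 3 := by
    haveI : Fact (Nat.Prime 3) := ⟨Nat.prime_three⟩
    refine orderOf_eq_prime ?_ fun h => hxW ((bar_eq_one _).1 h)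
    rw [← map_pow, show (⟨x, hx⟩ : ↥(NW L.t W)) ^ 3 = 1 from Subtype.ext (by
      show x ^ 3 = 1
      rw [← h3, pow_orderOf_eq_one]), map_one]
  obtain ⟨m, -, hm⟩ := S3342Id.Closure.exists_conj_VJ F.C (M := ⊤) (fun _ _ => mem_top _) (by
    rw [Subgroup.card_top, Nat.card_congr e.toEquiv, S3342Id.card_sp62]
    norm_num) (mem_top _) ho
  obtain ⟨v, hv, hve⟩ := hm
  rw [F.pt_el v hv] at hve
  obtain ⟨y, rfl⟩ := QuotientGroup.mk'_surjective _ m
  set u := F.pt v
  have hu := F.pt_plane v hv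
  have hu0 : u ≠ 0 := fun h => by
    rw [h, elb_zero M, eq_comm, conj_eq_one_iff] at hve
    rw [hve, orderOf_one] at ho
    norm_num at ho
  rw [elb_eq M hu, ← map_inv, ← map_mul, ← map_mul, eq_comm, bar_eq] at hve
  have ha : orderOf ((y : G) * x * (y : G)⁻¹) = 3 := by
    rw [show (y : G) * x * (y : G)⁻¹ = MulAut.conj (y : G) x from rfl, MulEquiv.orderOf_eq, h3]
  obtain ⟨w, hw, hwe⟩ := exists_conj_of_mod (coprime_W M) ha (orderOf_el L hu0)
    (mul_mem (mul_mem y.2.1 hx.1) (inv_mem y.2.1)) hve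
  exact ⟨w * y, mul_mem (W_le M hw) y.2, u, hu, hu0, by rw [← hwe]; group⟩

omit M in
theorem mem_zpowers_three {a b : G} (ha : orderOf a = 3) (h : b ∈ zpowers a) : b = 1 ∨ b = a ∨ b = a⁻¹ := by
  obtain ⟨n, rfl⟩ := (isOfFinOrder_of_finite a).mem_powers_iff_mem_zpowers.2 h
  show a ^ n = 1 ∨ a ^ n = a ∨ a ^ n = a⁻¹
  rw [← pow_mod_orderOf, ha]
  rcases (by omega : n % 3 = 0 ∨ n % 3 = 1 ∨ n % 3 = 2) with e | e | e <;> rw [e]
  · exact Or.inl (pow_zero a)
  · exact Or.inr (Or.inl (pow_one a))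
  · refine Or.inr (Or.inr (eq_inv_of_mul_eq_one_left ?_))
    rw [← pow_succ]
    have := pow_orderOf_eq_one a
    rwa [ha] at this

/-- Strong embedding for the prime three. -/
theorem three {x : G} (hx : x ∈ NW L.t W) (h3 : orderOf x = 3) {g : G} (hg : g ∈ centralizer ({L.t} : Set G))
    (h : g * x * g⁻¹ ∈ zpowers x) : g ∈ NW L.t W := by
  obtain ⟨c, hc, u, hu, hu0, hcu⟩ := exists_conj_plane M hx h3
  set g' := c * g * c⁻¹
  have hg' : g' ∈ centralizer ({L.t} : Set G) := mul_mem (mul_mem hc.2 hg) (inv_mem hc.2)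
  have hin : g' * L.el u * g'⁻¹ ∈ zpowers (L.el u) := by
    obtain ⟨k, hk⟩ := h
    refine ⟨k, ?_⟩
    show L.el u ^ k = _
    rw [← hcu, conj_zpow, show x ^ k = g * x * g⁻¹ from hk]
    simp only [g']
    group
  have hne : g' * L.el u * g'⁻¹ ≠ 1 := fun e => by
    have := orderOf_el L hu0
    rw [conj_eq_one_iff.1 e, orderOf_one] at this
    norm_num at this
  have hmem : g' ∈ NW L.t W := by
    rcases mem_zpowers_three (orderOf_el L hu0) hin with e | e | e
    · exact absurd e hne
    · exact ⟨cent_le M hu hu0 ⟨mem_centralizer_singleton_iff.2 (mul_inv_eq_iff_eq_mul.1 e), hg'⟩, hg'⟩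
    · obtain ⟨n, hn, hne'⟩ := exists_inverting M
      have hcn : n * g' * L.el u * (n * g')⁻¹ = L.el u := by
        rw [show n * g' * L.el u * (n * g')⁻¹ = n * (g' * L.el u * g'⁻¹) * n⁻¹ by group, e, ← conj_inv, hne',
          inv_inv]
      have := mul_mem (inv_mem hn) (show n * g' ∈ NW L.t W from
        ⟨cent_le M hu hu0 ⟨mem_centralizer_singleton_iff.2 (mul_inv_eq_iff_eq_mul.1 hcn), mul_mem hn.2 hg'⟩,
          mul_mem hn.2 hg'⟩)
      rwa [inv_mul_cancel_left] at this
  have := mul_mem (mul_mem (inv_mem hc) hmem) hc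
  rwa [show c⁻¹ * g' * c = g by simp only [g']; group] at this

/-- An element centralising `W` lies in it. -/
theorem self {x : G} (hx : x ∈ centralizer ({L.t} : Set G)) (h : ∀ q ∈ W, x * q = q * x) : x ∈ W := by
  classical
  let Cw : Subgroup ↥(NW L.t W) := (centralizer (W : Set G)).subgroupOf (NW L.t W)
  haveI hCw : Cw.Normal := ⟨fun n hn y => by
    show ((y * n * y⁻¹ : ↥(NW L.t W)) : G) ∈ centralizer (W : Set G)
    refine mem_centralizer_iff.2 fun q hq => ?_
    have hq' : (y : G)⁻¹ * q * y ∈ W := by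
      simpa using (mem_normalizer_iff.1 (inv_mem y.2.1) q).1 hq
    have hc := mem_centralizer_iff.1 (show (n : G) ∈ centralizer (W : Set G) from hn) _ hq'
    push_cast
    calc q * ((y : G) * n * (y : G)⁻¹) = y * ((y : G)⁻¹ * q * y * n) * (y : G)⁻¹ := by group
      _ = _ := by rw [hc]; group⟩
  obtain ⟨e⟩ := quot_iso M
  haveI := S3342Id.isSimpleGroup_sp62
  haveI : Nontrivial (Gb L.t W) := e.toEquiv.nontrivial
  haveI : IsSimpleGroup (Gb L.t W) :=
    IsSimpleGroup.isSimpleGroup_of_surjective e.symm.toMonoidHom e.symm.surjective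
  have hn : (Cw.map (bar L.t W)).Normal := hCw.map _ (QuotientGroup.mk'_surjective _)
  have hxN : x ∈ NW L.t W := ⟨mem_normalizer_iff.2 fun q => by
    have hw : ∀ q ∈ W, x * q * x⁻¹ = q := fun q hq => by rw [h q hq, mul_inv_cancel_right]
    refine ⟨fun hq => by rwa [hw q hq], fun hq => ?_⟩
    have e := hw _ hq
    have e' : x * q * x⁻¹ = q := mul_left_cancel (mul_right_cancel e)
    rwa [e'] at hq, hx⟩
  rcases hn.eq_bot_or_eq_top with hb | ht
  · have : bar L.t W ⟨x, hxN⟩ ∈ Cw.map (bar L.t W) :=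
      mem_map_of_mem _ (mem_centralizer_iff.2 fun q hq => (h q hq).symm)
    rw [hb, mem_bot, bar_eq_one] at this
    exact this
  · exfalso
    have hmem : bar L.t W ⟨L.el ci, el_mem M rfl⟩ ∈ Cw.map (bar L.t W) := ht ▸ mem_top _
    obtain ⟨c, hc, hce⟩ := hmem
    have hw : (c : G)⁻¹ * L.el ci ∈ W := bar_eq.1 hce
    set w := (c : G)⁻¹ * L.el ci with hwdef
    have hcc : (c : G) ∈ centralizer (W : Set G) := hc
    have hcomm : Commute (c : G) w := (mem_centralizer_iff.1 hcc w hw).symm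
    have hci : L.el ci ∈ centralizer (W : Set G) := by
      have e1 : L.el ci ^ 1024 = L.el ci := by
        rw [show (1024 : ℕ) = 3 * 341 + 1 by norm_num, pow_succ, pow_mul, el_pow3, one_pow, one_mul]
      have e2 : w ^ 1024 = 1 := by
        have h1 := congrArg Subtype.val (pow_card_eq_one' (x := (⟨w, hw⟩ : W)))
        rw [M.card] at h1
        have h2 : w ^ 512 = 1 := h1
        rw [show (1024 : ℕ) = 512 * 2 by norm_num, pow_mul, h2, one_pow]
      rw [← e1, show L.el ci = c * w by rw [hwdef]; group, hcomm.mul_pow, e2, mul_one]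
      exact pow_mem hcc _
    have hle : (W : Set G) ⊆ {1, L.t} := fun q hq =>
      M.fix_interior q hq (mem_centralizer_iff.1 hci q hq)
    have h2 := Nat.card_mono (Set.toFinite _) hle
    have h3 : Nat.card ↥({1, L.t} : Set G) ≤ 2 := by
      rw [Nat.card_coe_set_eq]
      exact (Set.ncard_insert_le _ _).trans (by simp)
    have h4 : Nat.card ↥(W : Set G) = 512 := M.card
    omega

/-- **The data of the closing step.** -/
theorem exists_closing : Nonempty (Close.Closing L.t W) := by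
  classical
  have htW : L.t ∈ W := M.P_le L.t_mem
  have ht : orderOf L.t = 2 := orderOf_eq_prime (by rw [pow_two, L.t_sq]) (t_ne_one (L := L))
  have htm : L.t ∈ Close.MW L.t W := W_le M htW
  let t' : ↥(Close.MW L.t W) := ⟨L.t, htm⟩
  have htc : centralizer ({t'} : Set ↥(Close.MW L.t W)) = ⊤ := (Subgroup.eq_top_iff' _).2 fun x =>
    mem_centralizer_singleton_iff.2 (Subtype.ext (mem_centralizer_singleton_iff.1 x.2.2))
  have hWle : W ≤ Close.MW L.t W := W_le M
  have S : Close.CoordsM.MSetup t' (W.subgroupOf (Close.MW L.t W)) := by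
    refine ⟨?_, htc ▸ le_top, fun x _ q hq => ?_, ?_, ?_, fun x _ hx => ?_⟩
    · rw [← Subgroup.orderOf_coe]
      exact ht
    · exact (normal_subgroupOf L.t W).conj_mem q hq x
    · exact Co2Recog.Start.extraspecial_iso (subgroupOfEquivOfLe hWle).symm M.extra
    · rw [Nat.card_congr (subgroupOfEquivOfLe hWle).toEquiv, M.card]
    · exact self M x.2.2 fun q hq => congrArg Subtype.val (hx ⟨q, hWle hq⟩ hq)
  obtain ⟨e⟩ := quot_iso M
  obtain ⟨φ, hφ, hr⟩ := SchurMult.exists_sp62_hom (F := ZMod 2) (ZMod.card 2)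
  let f := ((φ.comp e.toMonoidHom).comp (QuotientGroup.mk' (W.subgroupOf (NW L.t W)))).comp
    (centralizer ({t'} : Set ↥(Close.MW L.t W))).subtype
  have hfr : f.range = Sp63 := by
    have hsub : (centralizer ({t'} : Set ↥(Close.MW L.t W))).subtype.range = ⊤ := by
      rw [Subgroup.range_subtype, htc]
    rw [MonoidHom.range_comp, hsub, ← MonoidHom.range_eq_map, MonoidHom.range_comp,
      QuotientGroup.range_mk', ← MonoidHom.range_eq_map, MonoidHom.range_comp,
      MonoidHom.range_eq_top.2 e.surjective, ← MonoidHom.range_eq_map, hr]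
  have hfk : f.ker = (W.subgroupOf (Close.MW L.t W)).subgroupOf (centralizer {t'}) := by
    ext x
    rw [MonoidHom.mem_ker, mem_subgroupOf]
    show φ (e (QuotientGroup.mk' (W.subgroupOf (NW L.t W)) (x : ↥(Close.MW L.t W)))) = 1 ↔ _
    rw [map_eq_one_iff _ hφ, MulEquiv.map_eq_one_iff]
    exact QuotientGroup.eq_one_iff _
  have hcc : (⟨L.el ci, el_mem M rfl⟩ : ↥(Close.MW L.t W)) ∈ centralizer ({t'} : Set ↥(Close.MW L.t W)) := by
    rw [htc]; trivial
  obtain ⟨K, -⟩ := Close.CoordsM.exists_coords_of S f hfr hfk ⟨_, hcc, by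
    rw [← Subgroup.orderOf_coe]
    exact orderOf_el L (v := ci) (by decide), fun q hq h =>
      (M.fix_interior q hq (congrArg Subtype.val h.eq)).imp (fun e => Subtype.ext e) fun e => Subtype.ext e⟩
  exact ⟨⟨ht, htm, M.le, M.extra, M.card, fun x hx h => self M hx h, K,
    fun x hx h3 g hg h => three M hx h3 hg h⟩⟩

end Cfsg.Agent.Co2Three.Quot
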