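import Cfsg.Agent.Lib.S3342Id.Emb

/-!
The model group of the centraliser of a point: three pairwise commuting reflections of the coordinate space of
order 27, an involution centralising them which moves that space, and a bound for the centraliser of the first
reflection.
-/

set_option autoImplicit false
set_option maxRecDepth 100000

namespace Cfsg.Agent.Co2Three.Quot

open Cfsg.Agent.CosetCert Cfsg.Agent.S3342Id Cfsg.Agent.S3342Id.Closure Cfsg.Agent.S3342Id.Seven

/-- A word as an element of the model. -/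
def pW (w : List ℕ) : Closure.W := wprod gW w

/-- The word of the element at 27. -/
def w27 : List ℕ := wordOf (steps.getD 0 [])

/-- The word of the element at 1. -/
def w1 : List ℕ := wordOf (steps.getD 2 [])

/-- The word of the swap. -/
def ws : List ℕ := wordOf (steps.getD 3 [])

/-- The word of the element at 9. -/
def w9 : List ℕ := ws ++ w27 ++ w27 ++ ws.reverse

/-- The repeated word. -/
def wpow (w : List ℕ) : ℕ → List ℕ
  | 0 => []
  | n + 1 => w ++ wpow w n

/-- The word of a point of the coordinate space. -/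
def wPt (v : ℕ) : List ℕ := wpow w9 (v % 3) ++ wpow w1 (v / 3 % 3) ++ wpow w27 (v / 9)

/-- The element at 27. -/
def a27 : Closure.W := pW w27

/-- The element at 1. -/
def a1 : Closure.W := pW w1

/-- The element at 9. -/
def a9 : Closure.W := pW w9

/-- A point of the coordinate space, in coordinates `t + 3x + 9k`. -/
def pt (v : ℕ) : Closure.W := a9 ^ (v % 3) * a1 ^ (v / 3 % 3) * a27 ^ (v / 9)

/-- The reflection in the point 19. -/
def r19 : Closure.W := pW [0]

/-- The reflection in the point 13. -/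
def r13 : Closure.W := pW [2, 3, 1, 2, 0, 1, 5, 1, 2, 3, 0, 1, 2]

/-- The reflection in the point 16. -/
def r16 : Closure.W := pW [3]

/-- An involution moving the coordinate space. -/
def mv : Closure.W := pW [5]

theorem pW_nil : pW [] = 1 := rfl

theorem pW_append (u w : List ℕ) : pW (u ++ w) = pW u * pW w := by
  simp [pW, wprod, List.map_append, List.prod_append]

theorem gW_sq (i : ℕ) : gW i * gW i = 1 := by
  unfold gW
  split
  · exact Subtype.ext (tg_sq i)
  · exact one_mul 1

theorem pW_reverse (w : List ℕ) : pW w.reverse = (pW w)⁻¹ := wprod_reverse gW_sq w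

theorem pW_wpow (w : List ℕ) : ∀ n, pW (wpow w n) = pW w ^ n
  | 0 => rfl
  | n + 1 => by rw [wpow, pW_append, pW_wpow w n, ← pow_succ']

theorem pW_wPt (v : ℕ) : pW (wPt v) = pt v := by
  simp only [wPt, pW_append, pW_wpow, pt, a9, a1, a27]

theorem a9_eq : a9 = pW ws * (a27 * a27) * (pW ws)⁻¹ := by
  simp only [a9, w9, a27, pW_append, pW_reverse, mul_assoc]

/-- The transvections as packed tables. -/
def tbl : List ℕ := [38785894046477798887664610806640517762249821326098729291568544583820054891023599819692597542733760321897641188008000,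
  34465625235200390672366756850333554728722683461525878507435725908624942346319946967220838411836256532677078075318848,
  39392078757191551357345011763556444563022057075595377561052356329673799174351197194041506793538362694639690168672320,
  29387662525078596514976629659442152834016007019297575693798765719127484981292813291920305174457705877478788127596608,
  38141832038731396298431630932234570062764860520476424418588319585108007679246875795972965801062238651507005530579008,
  39392078757191546911238728806733934369417332353231827434376037195497895634799288547280382866374758946033598131347520,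
  19378362517012745801611433659422514643272438415660073239608698179986034162167971669931411234001203469344093577683008]

/-- A transvection by table. -/
def tcF (i x : ℕ) : ℕ := Nat.mod (Nat.shiftRight (tbl.getD i 0) (Nat.mul 6 x)) 64

/-- A word by tables. -/
def wF : List ℕ → ℕ → ℕ :=
  List.rec (motive := fun _ => ℕ → ℕ) id (fun i _ ih x => tcF i (ih x))

/-- The code of a word, by tables. -/
def wcF (w : List ℕ) : ℕ := Closure.pk fun k => wF w (2 ^ k)

theorem tcF_spec : ∀ i < 7, ∀ x < 64, tcF i x = tc i x ∧ tc i x < 64 := by decide +kernel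

theorem wF_eq : ∀ w : List ℕ, (∀ i ∈ w, i < 7) → ∀ x < 64, wF w x = wc w x ∧ wc w x < 64
  | [], _, x, hx => ⟨rfl, hx⟩
  | i :: w, hw, x, hx => by
    obtain ⟨h1, h2⟩ := wF_eq w (fun j hj => hw j (List.mem_cons_of_mem _ hj)) x hx
    obtain ⟨h3, h4⟩ := tcF_spec i (hw i List.mem_cons_self) _ h2
    exact ⟨show tcF i (wF w x) = tc i (wc w x) by rw [h1, h3], h4⟩

theorem wcF_eq {w : List ℕ} (hw : ∀ i ∈ w, i ∈ six) : wcF w = wcd w := by
  have h : ∀ k < 6, wF w (2 ^ k) = wc w (2 ^ k) := fun k hk =>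
    (wF_eq w (fun i hi => six_lt i (hw i hi)) _ ((by decide : ∀ k < 6, (2 : ℕ) ^ k < 64) k hk)).1
  simp only [wcF, wcd, Closure.pk, h 0 (by norm_num), h 1 (by norm_num), h 2 (by norm_num), h 3 (by norm_num),
    h 4 (by norm_num), h 5 (by norm_num)]

/-- Two words with the same code. -/
def eqC (u w : List ℕ) : Bool :=
  (u.all fun i => six.contains i) && (w.all fun i => six.contains i) && Nat.beq (wcF u) (wcF w)

theorem pW_val {w : List ℕ} (h : ∀ i ∈ w, i ∈ six) : Rep ((pW w : Closure.W) : Sp62) (wcd w) := by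
  rw [pW, coe_gW h]
  exact rep_word fun i hi => six_lt i (h i hi)

theorem eqC_spec {u w : List ℕ} (h : eqC u w = true) : pW u = pW w := by
  simp only [eqC, Bool.and_eq_true, List.all_eq_true, List.contains_iff_mem, Nat.beq_eq] at h
  obtain ⟨⟨hu, hw⟩, e⟩ := h
  rw [wcF_eq hu, wcF_eq hw] at e
  exact Subtype.ext (eq_of_code (pW_val hu) (pW_val hw) e)

theorem neC_spec {u w : List ℕ} (hu : u.all (fun i => six.contains i) = true)
    (hw : w.all (fun i => six.contains i) = true) (e : Nat.beq (wcF u) (wcF w) = false) : pW u ≠ pW w := by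
  simp only [List.all_eq_true, List.contains_iff_mem] at hu hw
  intro h
  rw [wcF_eq hu, wcF_eq hw] at e
  exact Nat.ne_of_beq_eq_false e (rep_unique (pW_val hu) (h ▸ pW_val hw))

theorem invol_ok : eqC ([0] ++ [0]) [] && eqC ([3] ++ [3]) [] && eqC ([5] ++ [5]) [] &&
    eqC ([2, 3, 1, 2, 0, 1, 5, 1, 2, 3, 0, 1, 2] ++ [2, 3, 1, 2, 0, 1, 5, 1, 2, 3, 0, 1, 2]) [] = true := by
  decide +kernel

theorem invol : r19 * r19 = 1 ∧ r13 * r13 = 1 ∧ r16 * r16 = 1 ∧ mv * mv = 1 := by
  have h := invol_ok
  simp only [Bool.and_eq_true] at h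
  refine ⟨?_, ?_, ?_, ?_⟩ <;> simp only [r19, r13, r16, mv, ← pW_append, ← pW_nil]
  exacts [eqC_spec h.1.1.1, eqC_spec h.2, eqC_spec h.1.1.2, eqC_spec h.1.2]

/-- The word of the reflection in 13. -/
abbrev u13 : List ℕ := [2, 3, 1, 2, 0, 1, 5, 1, 2, 3, 0, 1, 2]

theorem comm_ok : eqC ([0] ++ u13) (u13 ++ [0]) && eqC ([0] ++ [3]) ([3] ++ [0]) && eqC (u13 ++ [3]) ([3] ++ u13) &&
    eqC ([5] ++ [0]) ([0] ++ [5]) && eqC ([5] ++ u13) (u13 ++ [5]) && eqC ([5] ++ [3]) ([3] ++ [5]) = true := by
  decide +kernel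

/-- The three reflections commute, and the moving involution commutes with them. -/
theorem comm : r19 * r13 = r13 * r19 ∧ r19 * r16 = r16 * r19 ∧ r13 * r16 = r16 * r13 ∧
    mv * r19 = r19 * mv ∧ mv * r13 = r13 * mv ∧ mv * r16 = r16 * mv := by
  have h := comm_ok
  simp only [Bool.and_eq_true] at h
  refine ⟨?_, ?_, ?_, ?_, ?_, ?_⟩ <;> simp only [r19, r13, r16, mv, ← pW_append]
  exacts [eqC_spec h.1.1.1.1.1, eqC_spec h.1.1.1.1.2, eqC_spec h.1.1.1.2, eqC_spec h.1.1.2, eqC_spec h.1.2,
    eqC_spec h.2]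

theorem act_ok :
    eqC ([0] ++ wPt 1 ++ [0]) (wPt 9) && eqC ([0] ++ wPt 3 ++ [0]) (wPt 3) && eqC ([0] ++ wPt 9 ++ [0]) (wPt 1) &&
    eqC (u13 ++ wPt 1 ++ u13) (wPt 14) && eqC (u13 ++ wPt 3 ++ u13) (wPt 20) &&
    eqC (u13 ++ wPt 9 ++ u13) (wPt 22) &&
    eqC ([3] ++ wPt 1 ++ [3]) (wPt 17) && eqC ([3] ++ wPt 3 ++ [3]) (wPt 10) &&
    eqC ([3] ++ wPt 9 ++ [3]) (wPt 25) = true := by
  decide +kernel

/-- The actions on the three basis points. -/
theorem act_r19 : r19 * pt 1 * r19 = pt 9 ∧ r19 * pt 3 * r19 = pt 3 ∧ r19 * pt 9 * r19 = pt 1 := by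
  have h := act_ok
  simp only [Bool.and_eq_true] at h
  refine ⟨?_, ?_, ?_⟩ <;> simp only [r19, ← pW_wPt, ← pW_append]
  exacts [eqC_spec h.1.1.1.1.1.1.1.1, eqC_spec h.1.1.1.1.1.1.1.2, eqC_spec h.1.1.1.1.1.1.2]

theorem act_r13 : r13 * pt 1 * r13 = pt 14 ∧ r13 * pt 3 * r13 = pt 20 ∧ r13 * pt 9 * r13 = pt 22 := by
  have h := act_ok
  simp only [Bool.and_eq_true] at h
  refine ⟨?_, ?_, ?_⟩ <;> simp only [r13, ← pW_wPt, ← pW_append]
  exacts [eqC_spec h.1.1.1.1.1.2, eqC_spec h.1.1.1.1.2, eqC_spec h.1.1.1.2]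

theorem act_r16 : r16 * pt 1 * r16 = pt 17 ∧ r16 * pt 3 * r16 = pt 10 ∧ r16 * pt 9 * r16 = pt 25 := by
  have h := act_ok
  simp only [Bool.and_eq_true] at h
  refine ⟨?_, ?_, ?_⟩ <;> simp only [r16, ← pW_wPt, ← pW_append]
  exacts [eqC_spec h.1.1.2, eqC_spec h.1.2, eqC_spec h.2]

theorem moved_ok : ((List.range 27).all fun v =>
    ([5] ++ wPt 1 ++ [5]).all (fun i => six.contains i) && (wPt v).all (fun i => six.contains i) &&
      !Nat.beq (wcF ([5] ++ wPt 1 ++ [5])) (wcF (wPt v))) = true := by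
  decide +kernel

/-- The moving involution does not normalise the coordinate space. -/
theorem mv_moves : ∀ v < 27, mv * pt 1 * mv ≠ pt v := by
  intro v hv
  have h := List.all_eq_true.1 moved_ok v (List.mem_range.2 hv)
  simp only [Bool.and_eq_true, Bool.not_eq_true'] at h
  simp only [mv, ← pW_wPt, ← pW_append]
  exact neC_spec h.1.1 h.1.2 h.2

/-- Words of conjugators giving 36 conjugates of the first reflection. -/
def conjW : List (List ℕ) := [
  [],
  [1],
  [0, 1],
  [2, 1],
  [5, 1],
  [2, 0, 1],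
  [3, 2, 1],
  [5, 0, 1],
  [5, 2, 1],
  [6, 5, 1],
  [1, 2, 0, 1],
  [1, 5, 0, 1],
  [1, 5, 2, 1],
  [3, 2, 0, 1],
  [5, 2, 0, 1],
  [5, 3, 2, 1],
  [6, 5, 0, 1],
  [6, 5, 2, 1],
  [1, 5, 3, 2, 1],
  [3, 1, 2, 0, 1],
  [5, 3, 2, 0, 1],
  [6, 1, 5, 0, 1],
  [6, 1, 5, 2, 1],
  [6, 5, 2, 0, 1],
  [6, 5, 3, 2, 1],
  [2, 1, 5, 3, 2, 1],
  [2, 3, 1, 2, 0, 1],
  [5, 6, 1, 5, 0, 1],
  [5, 6, 1, 5, 2, 1],
  [6, 1, 5, 3, 2, 1],
  [6, 5, 3, 2, 0, 1],
  [5, 6, 1, 5, 3, 2, 1],
  [6, 2, 1, 5, 3, 2, 1],
  [5, 6, 2, 1, 5, 3, 2, 1],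
  [1, 5, 6, 2, 1, 5, 3, 2, 1],
  [0, 1, 5, 6, 2, 1, 5, 3, 2, 1]]

/-- The codes of those conjugates. -/
def conjC : List ℕ := [34630549633,
  34628452488,
  34630287497,
  34798059659,
  47515189389,
  34813526154,
  34529625627,
  48588144780,
  50987810958,
  13155598509,
  34681405569,
  40000307329,
  42265755777,
  34549286490,
  49897554063,
  67903440734,
  14236946604,
  17173491886,
  59181385025,
  34417165377,
  66808989471,
  5649076353,
  8451403905,
  16074842287,
  34089189246,
  56105125249,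
  34630288513,
  34630418561,
  35200852097,
  25367100737,
  32986345279,
  34932485121,
  21745569153,
  34643336385,
  34641272568,
  34630520505]

theorem class_ok : ((List.range 36).all fun i =>
    let w := conjW.getD i []
    (w ++ [0] ++ w.reverse).all (fun j => six.contains j) &&
      Nat.beq (wcF (w ++ [0] ++ w.reverse)) (conjC.getD i 0)) = true := by decide +kernel

theorem conjC_nodup : ∀ i < 36, ∀ j < 36, conjC.getD i 0 = conjC.getD j 0 → i = j := by decide +kernel

theorem class_ge : 36 ≤ Nat.card ↥(MulAction.orbit (ConjAct Closure.W) r19) := by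
  classical
  let u : ℕ → List ℕ := fun i => conjW.getD i [] ++ [0] ++ (conjW.getD i []).reverse
  have hu : ∀ i < 36, (∀ j ∈ u i, j ∈ six) ∧ wcd (u i) = conjC.getD i 0 := fun i hi => by
    have h := List.all_eq_true.1 class_ok i (List.mem_range.2 hi)
    simp only [Bool.and_eq_true, List.all_eq_true, List.contains_iff_mem, Nat.beq_eq] at h
    exact ⟨h.1, (wcF_eq h.1).symm.trans h.2⟩
  let g : Fin 36 → ↥(MulAction.orbit (ConjAct Closure.W) r19) := fun i =>
    ⟨pW (u i), ConjAct.toConjAct (pW (conjW.getD i [])), by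
        show ConjAct.toConjAct (pW (conjW.getD i [])) • r19 = _
        simp only [u, r19, ConjAct.toConjAct_smul, pW_append, pW_reverse]⟩
  have hg : Function.Injective g := fun i j e => by
    have hv : pW (u i) = pW (u j) := congrArg Subtype.val e
    have h1 := pW_val (hu i i.2).1
    rw [hv] at h1
    have e2 := rep_unique h1 (pW_val (hu j j.2).1)
    rw [(hu i i.2).2, (hu j j.2).2] at e2
    exact Fin.ext (conjC_nodup i i.2 j j.2 e2)
  have := Nat.card_le_card_of_injective g hg
  rwa [Nat.card_fin] at this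

/-- The centraliser of the first reflection has at most 1440 elements. -/
theorem card_cent_le : Nat.card ↥(Subgroup.centralizer ({r19} : Set Closure.W)) ≤ 1440 := by
  have h := (MulAction.stabilizer (ConjAct Closure.W) r19).index_mul_card
  rw [MulAction.index_stabilizer, ← Nat.card_coe_set_eq, ConjAct.stabilizer_eq_centralizer] at h
  have h1 := class_ge
  have h2 := card_W_le
  have e : Nat.card (ConjAct Closure.W) = Nat.card Closure.W := rfl
  rw [e] at h
  have h3 := Nat.mul_le_mul_right (Nat.card ↥(Subgroup.centralizer ({ConjAct.toConjAct r19} : Set (ConjAct Closure.W)))) h1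
  have h4 : Nat.card ↥(Subgroup.centralizer ({ConjAct.toConjAct r19} : Set (ConjAct Closure.W))) =
      Nat.card ↥(Subgroup.centralizer ({r19} : Set Closure.W)) := rfl
  omega

end Cfsg.Agent.Co2Three.Quot
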