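import Cfsg.Agent.Lib.Co2Three.Quot.Setup
import Cfsg.Agent.Lib.Hayden.Norm
import Cfsg.Agent.Lib.Hayden.Swap

/-!
The orbit of the central image among the images of the points is that of the singular points orthogonal to the
exterior point: the type of eight.
-/

set_option autoImplicit false
set_option maxRecDepth 20000
set_option linter.style.haveILetI false
set_option linter.unusedSectionVars false

namespace Cfsg.Agent.Co2Three

open Subgroup
open Cfsg.Agent.HeisSLThree (SL₂)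
open Cfsg.Agent.Hayden Cfsg.Agent.Hayden.Cfg

def moveList2 : List (V4 × Matrix (Fin 4) (Fin 4) (ZMod 3)) := [
  (![0, 0, 0, 1], !![0, 0, 0, 1; 0, 1, 0, 0; 0, 0, 1, 0; 1, 0, 0, 0]),
  (![0, 0, 0, 2], !![0, 0, 0, 2; 0, 1, 0, 0; 0, 0, 1, 0; 2, 0, 0, 0]),
  (![1, 0, 0, 0], !![1, 0, 0, 0; 0, 1, 0, 0; 0, 0, 1, 0; 0, 0, 0, 1]),
  (![1, 1, 0, 1], !![1, 0, 0, 0; 1, 2, 0, 0; 0, 0, 1, 0; 1, 1, 0, 1]),
  (![1, 2, 0, 1], !![1, 0, 0, 0; 2, 2, 0, 0; 0, 0, 1, 0; 1, 2, 0, 1]),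
  (![2, 0, 0, 0], !![2, 1, 0, 2; 0, 1, 0, 1; 0, 0, 1, 0; 0, 0, 0, 2]),
  (![2, 1, 0, 2], !![2, 2, 0, 2; 1, 0, 0, 2; 0, 0, 1, 0; 2, 1, 0, 2]),
  (![2, 2, 0, 2], !![2, 1, 0, 2; 2, 0, 0, 1; 0, 0, 1, 0; 2, 2, 0, 2])]

theorem move2_cover : ∀ v : V4, v ≠ 0 → qf v = 0 → v 2 = 0 → v ∈ moveList2.map Prod.fst := by decide +kernel

theorem move2_ok' : moveList2.all (fun p => decide (p.2.mulVec p.1 = e0) && decide (p.2.mulVec e2 = e2) &&
    decide (∀ v, qf (p.2.mulVec v) = qf v)) = true := by decide +kernel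

theorem orth_facts : ∀ (u : V4) (i : ZMod 3), u 2 = 0 → i ≠ 0 → bf (u + i • e2) e2 ≠ 0 := by decide +kernel

theorem neg_facts : ∀ u : V4, qf (-u) = qf u ∧ (u 2 = 0 → (-u) 2 = 0) ∧ bf (-u) e2 = -bf u e2 := by
  decide +kernel

/-- Five singular points orthogonal to the exterior point. -/
def five : Fin 5 → V4 := ![![1, 0, 0, 0], ![2, 0, 0, 0], ![0, 0, 0, 1], ![0, 0, 0, 2], ![1, 1, 0, 1]]

theorem five_facts : ∀ k, five k ≠ 0 ∧ qf (five k) = 0 ∧ five k 2 = 0 := by decide +kernel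

theorem five_apart : ∀ k l, k ≠ l → ∀ i : ZMod 3, five k ≠ five l + i • e2 := by decide +kernel

theorem small_orbit : ∀ O ∈ [[1], [1, 2], Cfsg.Agent.Hayden.O4], O.length ≤ 4 := by decide

/-- A standard position by a central twist, keeping the abelian subgroup. -/
theorem exists_twist {G : Type*} [Group G] [Finite G] {el : ℕ → G} (C : Cfg el) :
    ∃ el' : ℕ → G, ∃ C' : Cfg el', el' 9 = el 9 ∧ (∀ v < 27, ∃ w < 27, el' (vi w) = el (vi v)) ∧
      ((∀ v < 27, C'.Orb v ↔ v ∈ O8) ∨ ∃ O : List ℕ, O.length ≤ 4 ∧ ∀ v < 27, C'.Orb v → v ∈ O) := by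
  obtain ⟨bm, hbm, hO⟩ := C.exists_bits
  have small : (∀ v < 27, v ∈ cand bm.1 bm.2 → v ∈ [1, 2]) →
      ∃ el' : ℕ → G, ∃ C' : Cfg el', el' 9 = el 9 ∧ (∀ v < 27, ∃ w < 27, el' (vi w) = el (vi v)) ∧
      ((∀ v < 27, C'.Orb v ↔ v ∈ O8) ∨ ∃ O : List ℕ, O.length ≤ 4 ∧ ∀ v < 27, C'.Orb v → v ∈ O) := fun h =>
    ⟨el, C, rfl, fun v hv => ⟨v, hv, rfl⟩, Or.inr ⟨[1, 2], by simp, fun v hv ho => h v hv ((hO v hv).1 ho)⟩⟩
  rcases chk_norm.2.2 bm hbm with rfl | rfl | ⟨c, hc, hcO⟩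
  · exact small fun v hv h => by simp [(chk_norm.1 v hv).1 h]
  · exact small fun v hv h => by rcases (chk_norm.2.1 v hv).1 h with rfl | rfl <;> simp
  · obtain ⟨C', h9⟩ := C.twist c hc
    have hO' : ∀ v < 27, C'.Orb v ↔ sv c v ∈ cand bm.1 bm.2 := fun v hv => by
      rw [← hO _ (chk_sv c hc v hv).1]
      show (∃ g : G, g * el (sh c 9) * g⁻¹ = el (sh c (vi v))) ↔ _
      rw [(chk_sh_nine c hc).1, (chk_sv c hc v hv).2.1]
      rfl
    refine ⟨_, C', h9, fun v hv => ?_, ?_⟩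
    · have hc' : (3 - c) % 3 < 3 := Nat.mod_lt _ (by norm_num)
      obtain ⟨h1, -, h3⟩ := chk_sv _ hc' v hv
      rw [show (3 - (3 - c) % 3) % 3 = c by omega] at h3
      exact ⟨_, h1, by show el (sh c (vi _)) = _; rw [(chk_sv c hc _ h1).2.1, h3]⟩
    · rcases hcO with h | h
      · exact Or.inr ⟨O4, small_orbit _ (by simp), fun v hv ho => (h v hv).1 ((hO' v hv).1 ho)⟩
      · exact Or.inl fun v hv => (hO' v hv).trans (h v hv)

namespace Loc

variable {G : Type*} [Group G] [Finite G] (L : Loc G)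

theorem card_V4 : Nat.card V4 = 81 := by
  rw [Nat.card_eq_fintype_card]; decide +kernel

theorem card_J : Nat.card L.J = 81 := by
  rw [← card_V4]
  exact (Nat.card_eq_of_bijective (fun v : V4 => (⟨L.el v, L.el_mem_J v⟩ : L.J))
    ⟨fun u v h => L.el_inj (congrArg Subtype.val h), fun ⟨_, v, hv⟩ => ⟨v, Subtype.ext hv⟩⟩).symm

/-- Fusion inside the centraliser of the exterior point keeps tangents. -/
theorem no_secant_move {g : G} (hg : g ∈ L.CB) {u : V4} (hq : qf u = 0) (hu : u ≠ 0) (hb : bf u e2 ≠ 0)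
    (h : g * L.el e0 * g⁻¹ = L.el u) : False := by
  classical
  obtain ⟨f, hf, hk⟩ := L.tangent e2 e2_facts.2.2.2.1 (Or.inr e2_facts.2.2.2.2.1)
  have hg2 : Commute g (L.el e2) := mem_centralizer_singleton_iff.1 hg
  have hgi : g⁻¹ * L.el u * g = L.el e0 := by rw [← h]; group
  set J' : Subgroup G := L.J.map (MulAut.conj g⁻¹).toMonoidHom with hJ'
  have hmemJ : ∀ x, x ∈ J' ↔ ∃ v, x = g⁻¹ * L.el v * g := by
    intro x
    constructor
    · rintro ⟨_, ⟨v, rfl⟩, rfl⟩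
      exact ⟨v, by simp⟩
    · rintro ⟨v, rfl⟩
      exact ⟨_, L.el_mem_J v, by simp⟩
  have hle : J' ≤ L.C12 := by
    intro x hx
    obtain ⟨v, rfl⟩ := (hmemJ x).1 hx
    refine mem_inf.2 ⟨mem_centralizer_singleton_iff.2 ?_, mem_centralizer_singleton_iff.2 ?_⟩
    · have := ((L.el_comm v u).conj g⁻¹).eq
      rw [inv_inv] at this
      rwa [hgi] at this
    · have := ((L.el_comm v e2).conj g⁻¹).eq
      rw [inv_inv, show g⁻¹ * L.el e2 * g = L.el e2 by rw [mul_assoc, ← hg2.eq, inv_mul_cancel_left]] at this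
      exact this
  haveI hn : (J'.subgroupOf L.C12).Normal := ⟨fun n hn x => by
    rw [mem_subgroupOf, hmemJ] at hn ⊢
    obtain ⟨v, hv⟩ := hn
    obtain ⟨x1, x2⟩ := mem_inf.1 x.2
    have c1 : Commute (g * (x : G) * g⁻¹) (L.el u) := by
      rw [← h]; exact (show Commute (x : G) (L.el e0) from mem_centralizer_singleton_iff.1 x1).conj g
    have c2 : Commute (g * (x : G) * g⁻¹) (L.el e2) := by
      rw [show L.el e2 = g * L.el e2 * g⁻¹ by rw [hg2.eq, mul_inv_cancel_right]]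
      exact (show Commute (x : G) (L.el e2) from mem_centralizer_singleton_iff.1 x2).conj g
    obtain ⟨w, hw⟩ := L.secant' hu hq hb e2_facts.2.1 c1 c2 v
    refine ⟨w, ?_⟩
    rw [Subgroup.coe_mul, Subgroup.coe_mul, Subgroup.coe_inv, hv, ← hw]
    group⟩
  haveI : ((J'.subgroupOf L.C12).map f).Normal := Subgroup.Normal.map inferInstance f hf
  have hbot : (J'.subgroupOf L.C12).map f = ⊥ := sl_core _ (by
    rintro _ ⟨x, hx, rfl⟩
    obtain ⟨v, hv⟩ := (hmemJ _).1 (mem_subgroupOf.1 hx)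
    have h3 : x ^ 3 = 1 := by
      refine Subtype.ext ?_
      rw [Subgroup.coe_pow, hv, show g⁻¹ * L.el v * g = g⁻¹ * L.el v * g⁻¹⁻¹ by rw [inv_inv], conj_pow,
        L.el_cube, mul_one, mul_inv_cancel]
      rfl
    rw [← pow_three', ← map_pow, h3, map_one])
  have hQ : J' ≤ L.Q2 := fun x hx => mem_inf.2 ⟨(hk ⟨x, hle hx⟩).1 (by
    have : f ⟨x, hle hx⟩ ∈ (J'.subgroupOf L.C12).map f := mem_map_of_mem _ (mem_subgroupOf.2 hx)
    rwa [hbot, mem_bot] at this), (mem_inf.1 (hle hx)).2⟩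
  have heq : J' = L.Q2 := Subgroup.eq_of_le_of_card_ge hQ (by
    rw [(L.tangent_core e2 e2_facts.2.2.2.1 (Or.inr e2_facts.2.2.2.2.1)).1, hJ',
      Subgroup.card_map_of_injective (MulEquiv.injective _), L.card_J])
  obtain ⟨x, hx, y, hy, hne⟩ := L.Q2_nonabelian
  rw [← heq, hmemJ] at hx hy
  obtain ⟨v, rfl⟩ := hx
  obtain ⟨w, rfl⟩ := hy
  refine hne 0 ?_
  rw [zero_smul, L.el_zero]
  calc g⁻¹ * L.el v * g * (g⁻¹ * L.el w * g) * (g⁻¹ * L.el v * g)⁻¹ * (g⁻¹ * L.el w * g)⁻¹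
      = g⁻¹ * (L.el v * L.el w * (L.el v)⁻¹ * (L.el w)⁻¹) * g := by group
    _ = 1 := by rw [(L.el_comm v w).eq, mul_inv_cancel_right, mul_inv_cancel]; group

/-- The orbit of the central image. -/
theorem orb_iff {el : ℕ → L.XB} (C : Cfg el) {a : V4} (ha : a = e0 ∨ a = -e0) (h9 : el 9 = L.bar a)
    {w : ℕ} {u : V4} (hu : u 2 = 0) (he : el (vi w) = L.bar u) : C.Orb w ↔ u ≠ 0 ∧ qf u = 0 := by
  constructor
  · rintro ⟨x, hx⟩
    obtain ⟨g, rfl⟩ := QuotientGroup.mk'_surjective L.NB x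
    rw [h9, he] at hx
    obtain ⟨i, hi⟩ := L.pr_conj.1 hx
    have haq : qf a = 0 ∧ a ≠ 0 := by rcases ha with rfl | rfl <;> decide +kernel
    have hq := L.fused_sing haq.2 haq.1 hi
    have hne : u + i • e2 ≠ 0 := fun e => haq.2 (L.el_eq_one.1 (by
      rwa [e, L.el_zero, conj_eq_one_iff] at hi))
    have h0 : i = 0 := by
      by_contra hi0
      rcases ha with rfl | rfl
      · exact L.no_secant_move g.2 hq hne (orth_facts u i hu hi0) hi
      · refine L.no_secant_move g.2 (u := -(u + i • e2)) (by rw [(neg_facts _).1]; exact hq)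
          (neg_ne_zero.2 hne) (by rw [(neg_facts _).2.2]; exact neg_ne_zero.2 (orth_facts u i hu hi0)) ?_
        rw [L.el_neg (u + _), ← hi, L.el_neg]
        group
    rw [h0, zero_smul, add_zero] at hq hne
    exact ⟨hne, hq⟩
  · rintro ⟨hu0, huq⟩
    obtain ⟨v, hv0, hvq, hv2, hva⟩ : ∃ v, v ≠ 0 ∧ qf v = 0 ∧ v 2 = 0 ∧
        ∀ M : Matrix (Fin 4) (Fin 4) (ZMod 3), M.mulVec v = e0 → M.mulVec u = a := by
      rcases ha with rfl | rfl
      · exact ⟨u, hu0, huq, hu, fun _ h => h⟩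
      · exact ⟨-u, neg_ne_zero.2 hu0, by rw [(neg_facts u).1]; exact huq, (neg_facts u).2.1 hu,
          fun M h => by rw [← h, Matrix.mulVec_neg, neg_neg]⟩
    obtain ⟨p, hp, rfl⟩ := List.mem_map.1 (move2_cover v hv0 hvq hv2)
    have h2 := List.all_eq_true.1 move2_ok' p hp
    simp only [Bool.and_eq_true, decide_eq_true_eq] at h2
    obtain ⟨⟨m1, m2⟩, m3⟩ := h2
    obtain ⟨g, hg⟩ := L.realise p.2 (Or.inl m3)
    have hgB : g ∈ L.CB := mem_centralizer_singleton_iff.2 (mul_inv_eq_iff_eq_mul.1 (by rw [hg, m2]))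
    have h1 : L.pr ⟨g, hgB⟩ * L.bar u * (L.pr ⟨g, hgB⟩)⁻¹ = L.bar a :=
      L.pr_conj.2 ⟨0, by rw [zero_smul, add_zero, hg, hva _ m1]⟩
    refine ⟨(L.pr ⟨g, hgB⟩)⁻¹, ?_⟩
    rw [h9, he, ← h1]
    group

/-- The type of eight. -/
theorem exists_el8 : ∃ (el : ℕ → L.XB) (C : Cfg el) (a : V4), (a = e0 ∨ a = -e0) ∧ el 9 = L.bar a ∧
    (∀ v < 27, C.Orb v ↔ v ∈ O8) ∧ ∀ u, ∃ w < 27, el (vi w) = L.bar u := by
  classical
  obtain ⟨el₀, C₀, h90, hV₀⟩ := L.exists_elB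
  obtain ⟨el, C, h9, hV, hO⟩ := exists_twist C₀
  have hVb : ∀ u, ∃ w < 27, el (vi w) = L.bar u := fun u => by
    obtain ⟨v, hv, hve⟩ := hV₀ u
    obtain ⟨w, hw, hwe⟩ := hV v hv
    exact ⟨w, hw, hwe.trans hve⟩
  obtain ⟨a, ha, ha9⟩ : ∃ a, (a = e0 ∨ a = -e0) ∧ el 9 = L.bar a := by
    rcases h90 with e | e
    · exact ⟨e0, Or.inl rfl, h9.trans e⟩
    · refine ⟨-e0, Or.inr rfl, h9.trans (e.trans (inv_eq_of_mul_eq_one_right ?_))⟩
      rw [← L.bar_add, add_neg_cancel]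
      exact L.pr_eq_one.2 ⟨0, by rw [zero_smul]⟩
  rcases hO with hO | ⟨O, hOl, hOs⟩
  · exact ⟨el, C, a, ha, ha9, hO, hVb⟩
  · exfalso
    choose w hw hwe using fun k => hVb (five k)
    have hin : ∀ k, w k ∈ O := fun k => hOs _ (hw k)
      ((L.orb_iff C ha ha9 (five_facts k).2.2 (hwe k)).2 ⟨(five_facts k).1, (five_facts k).2.1⟩)
    have hinj : Function.Injective w := fun k l h => by
      by_contra hne
      obtain ⟨i, hi⟩ := L.bar_eq.1 ((hwe k).symm.trans ((congrArg (fun n => el (vi n)) h).trans (hwe l)))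
      exact five_apart k l hne i hi
    have hcard := Finset.card_le_card (s := Finset.univ.image w) (t := O.toFinset) fun x hx => by
      obtain ⟨k, -, rfl⟩ := Finset.mem_image.1 hx
      exact List.mem_toFinset.2 (hin k)
    rw [Finset.card_image_of_injective _ hinj, Finset.card_univ, Fintype.card_fin] at hcard
    exact absurd (hcard.trans ((List.toFinset_card_le O).trans hOl)) (by norm_num)

end Loc

end Cfsg.Agent.Co2Three
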