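import Cfsg.Agent.Lib.Co2Three.Basic
import Cfsg.Agent.Lib.Co2Three.Quot.Dict
import Cfsg.Agent.Lib.Fusion.SmallCentreOdd
import Mathlib.GroupTheory.SchurZassenhaus

/-!
The centraliser of an exterior point modulo the point: the centraliser of the image of the central element is the
extension of an extraspecial group of order 27 by `SL₂(3)`, and there is no signaliser.
-/

set_option autoImplicit false
set_option maxRecDepth 20000
set_option linter.style.haveILetI false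
set_option linter.unusedSectionVars false

namespace Cfsg.Agent.Co2Three

open Subgroup
open Cfsg.Agent.HeisSLThree (SL₂)
open scoped commutatorElement

theorem e2_facts : e2 ≠ 0 ∧ qf e2 ≠ 0 ∧ bf e0 e2 = 0 ∧ e2 3 = 0 ∧ e2 2 ≠ 0 ∧ qf e0 = 0 ∧
    (∀ i : ZMod 3, i ≠ 0 → qf (e0 + i • e2) ≠ 0) ∧ (∀ i j : ZMod 3, i • e0 = j • e2 → i = 0) := by
  decide +kernel

theorem sl_no_three : ∀ m : SL₂, m ≠ 1 → m * m * m = 1 → ∃ c : SL₂,
    m * (c * m * c⁻¹) * (m * (c * m * c⁻¹)) * (m * (c * m * c⁻¹)) ≠ 1 := by decide +kernel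

theorem sl_three : ∀ m : SL₂, m ^ 9 = 1 → m * m * m = 1 := by decide +kernel

/-- A normal subgroup of `SL₂(3)` of three-power order is trivial. -/
theorem sl_core (N : Subgroup SL₂) [hN : N.Normal] (h3 : ∀ m ∈ N, m * m * m = 1) : N = ⊥ := by
  rw [eq_bot_iff]
  intro m hm
  rw [mem_bot]
  by_contra h1
  obtain ⟨c, hc⟩ := sl_no_three m h1 (h3 m hm)
  exact hc (h3 _ (N.mul_mem hm (hN.conj_mem m hm c)))

namespace Loc

variable {G : Type*} [Group G] [Finite G] (L : Loc G)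

/-- The elementary abelian group of order 81. -/
def J : Subgroup G where
  carrier := Set.range L.el
  one_mem' := ⟨0, L.el_zero⟩
  mul_mem' := by rintro _ _ ⟨u, rfl⟩ ⟨v, rfl⟩; exact ⟨u + v, L.el_add u v⟩
  inv_mem' := by rintro _ ⟨u, rfl⟩; exact ⟨-u, L.el_neg u⟩

theorem el_mem_J (v : V4) : L.el v ∈ L.J := ⟨v, rfl⟩

/-- The centraliser of the exterior point. -/
abbrev CB : Subgroup G := centralizer ({L.el e2} : Set G)

theorem el_mem_CB (v : V4) : L.el v ∈ L.CB := mem_centralizer_singleton_iff.2 (L.el_comm v e2).eq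

/-- The point inside its centraliser. -/
abbrev NB : Subgroup ↥L.CB := zpowers ⟨L.el e2, L.el_mem_CB e2⟩

instance NB_normal : L.NB.Normal := ⟨fun n hn g => by
  have hc : g * (⟨L.el e2, L.el_mem_CB e2⟩ : L.CB) = ⟨L.el e2, L.el_mem_CB e2⟩ * g :=
    Subtype.ext (mem_centralizer_singleton_iff.1 g.2)
  obtain ⟨k, rfl⟩ := mem_zpowers_iff.1 hn
  rw [(Commute.zpow_right hc k).eq, mul_inv_cancel_right]
  exact zpow_mem_zpowers _ _⟩

/-- The centraliser of the point modulo the point. -/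
abbrev XB := ↥L.CB ⧸ L.NB

/-- The projection. -/
abbrev pr : ↥L.CB →* L.XB := QuotientGroup.mk' L.NB

/-- The image of a point. -/
def bar (v : V4) : L.XB := L.pr ⟨L.el v, L.el_mem_CB v⟩

theorem bar_add (u v : V4) : L.bar (u + v) = L.bar u * L.bar v := by
  rw [bar, bar, bar, ← map_mul]
  exact congrArg _ (Subtype.ext (L.el_add u v))

theorem bar_cube (v : V4) : L.bar v ^ 3 = 1 := by
  rw [bar, ← map_pow, show (⟨L.el v, L.el_mem_CB v⟩ : L.CB) ^ 3 = 1 from Subtype.ext (L.el_cube v), map_one]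

theorem bar_comm (u v : V4) : Commute (L.bar u) (L.bar v) := by
  rw [Commute, SemiconjBy, ← L.bar_add, ← L.bar_add, add_comm]

theorem pr_eq_one {g : L.CB} : L.pr g = 1 ↔ ∃ i : ZMod 3, (g : G) = L.el (i • e2) := by
  rw [QuotientGroup.mk'_apply, QuotientGroup.eq_one_iff]
  constructor
  · intro h
    obtain ⟨n, hn⟩ := (isOfFinOrder_of_finite _).mem_powers_iff_mem_zpowers.2 h
    refine ⟨n, ?_⟩
    have hn' : L.el e2 ^ n = g := congrArg Subtype.val hn
    rw [L.el_smul, ZMod.val_natCast, ← pow_eq_pow_mod n (L.el_cube e2)]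
    exact hn'.symm
  · rintro ⟨i, hi⟩
    exact mem_zpowers_iff.2 ⟨(i.val : ℤ), Subtype.ext (by rw [zpow_natCast, hi, L.el_smul]; rfl)⟩

theorem pr_eq {g h : L.CB} : L.pr g = L.pr h ↔ ∃ i : ZMod 3, (g : G) = h * L.el (i • e2) := by
  rw [← inv_mul_eq_one, ← map_inv, ← map_mul, L.pr_eq_one]
  constructor
  · rintro ⟨i, hi⟩
    refine ⟨-i, ?_⟩
    rw [neg_smul, L.el_neg, ← hi, Subgroup.coe_mul, Subgroup.coe_inv]
    group
  · rintro ⟨i, hi⟩
    refine ⟨-i, ?_⟩
    rw [neg_smul, L.el_neg, Subgroup.coe_mul, Subgroup.coe_inv, hi]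
    group

theorem bar_eq {u v : V4} : L.bar u = L.bar v ↔ ∃ i : ZMod 3, u = v + i • e2 := by
  rw [bar, bar, L.pr_eq]
  refine exists_congr fun i => ?_
  show L.el u = L.el v * L.el (i • e2) ↔ _
  rw [← L.el_add]
  exact L.el_inj.eq_iff

theorem bar_e0_ne : L.bar e0 ≠ 1 := fun h => by
  rw [bar, L.pr_eq_one] at h
  obtain ⟨i, hi⟩ := h
  exact one_ne_zero (e2_facts.2.2.2.2.2.2.2 1 i (by rw [one_smul]; exact L.el_inj hi))

theorem orderOf_bar_e0 : orderOf (L.bar e0) = 3 := orderOf_eq_prime (L.bar_cube e0) L.bar_e0_ne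

/-- Moving the images of points. -/
theorem pr_conj {g : L.CB} {u v : V4} :
    L.pr g * L.bar u * (L.pr g)⁻¹ = L.bar v ↔ ∃ i : ZMod 3, (g : G) * L.el u * (g : G)⁻¹ = L.el (v + i • e2) := by
  rw [bar, bar, ← map_inv, ← map_mul, ← map_mul, L.pr_eq]
  refine exists_congr fun i => ?_
  rw [L.el_add]
  rfl

theorem pr_comm_e0 {g : L.CB} : Commute (L.pr g) (L.bar e0) ↔ Commute (g : G) (L.el e0) := by
  constructor
  · intro h
    obtain ⟨i, hi⟩ := L.pr_conj.1 (mul_inv_eq_iff_eq_mul.2 h.eq)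
    have hq := L.fused_sing e0_ne qf_e0 hi
    have h0 : i = 0 := by
      by_contra hne
      exact e2_facts.2.2.2.2.2.2.1 i hne hq
    rw [h0, zero_smul, add_zero] at hi
    exact mul_inv_eq_iff_eq_mul.1 hi
  · intro h
    exact mul_inv_eq_iff_eq_mul.1 (L.pr_conj.2 ⟨0, by rw [zero_smul, add_zero, h.eq, mul_inv_cancel_right]⟩)

/-- The centraliser of the central image. -/
abbrev CW : Subgroup L.XB := centralizer ({L.bar e0} : Set L.XB)

/-- The two centralisers upstairs. -/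
abbrev C12 : Subgroup G := centralizer ({L.el e0} : Set G) ⊓ centralizer {L.el e2}

/-- The projection onto the centraliser of the central image. -/
def prC : ↥L.C12 →* ↥L.CW :=
  (L.pr.comp (Subgroup.inclusion (inf_le_right : L.C12 ≤ L.CB))).codRestrict _ fun g =>
    mem_centralizer_singleton_iff.2 ((L.pr_comm_e0 (g := ⟨g.1, g.2.2⟩)).2
      (mem_centralizer_singleton_iff.1 g.2.1)).eq

theorem prC_surj : Function.Surjective L.prC := by
  rintro ⟨x, hx⟩
  obtain ⟨g, rfl⟩ := QuotientGroup.mk'_surjective L.NB x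
  exact ⟨⟨g.1, mem_inf.2 ⟨mem_centralizer_singleton_iff.2
    (L.pr_comm_e0.1 (mem_centralizer_singleton_iff.1 hx)).eq, g.2⟩⟩, Subtype.ext rfl⟩

theorem prC_eq_one {g : L.C12} : L.prC g = 1 ↔ ∃ i : ZMod 3, (g : G) = L.el (i • e2) := by
  rw [Subtype.ext_iff]
  exact L.pr_eq_one

theorem exists_fbar : ∃ f : ↥L.CW →* SL₂, Function.Surjective f ∧
    ∀ g : L.C12, f (L.prC g) = 1 ↔ (g : G) ∈ L.Q := by
  obtain ⟨f, hf, hk⟩ := L.tangent e2 e2_facts.2.2.2.1 (Or.inr e2_facts.2.2.2.2.1)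
  have hle : L.prC.ker ≤ f.ker := fun g hg => by
    obtain ⟨i, hi⟩ := L.prC_eq_one.1 hg
    refine (hk g).2 ?_
    rw [hi, L.Q_J]
    show i * e2 3 = 0
    rw [e2_facts.2.2.2.1, mul_zero]
  obtain ⟨inv, hinv⟩ := L.prC_surj.hasRightInverse
  set F := L.prC.liftOfRightInverse inv hinv ⟨f, hle⟩ with hF
  have hFc : ∀ g, F (L.prC g) = f g := fun g => L.prC.liftOfRightInverse_comp_apply inv hinv ⟨f, hle⟩ g
  refine ⟨F, fun m => ?_, fun g => by rw [hFc]; exact hk g⟩
  obtain ⟨g, rfl⟩ := hf m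
  exact ⟨L.prC g, hFc g⟩

/-- The core upstairs. -/
abbrev Q2 : Subgroup G := L.Q ⊓ centralizer {L.el e2}

theorem Q2_le : L.Q2 ≤ L.C12 := inf_le_inf L.Q_le le_rfl

theorem e2_mem_Q2 (i : ZMod 3) : L.el (i • e2) ∈ L.Q2 := by
  refine mem_inf.2 ⟨?_, L.el_mem_CB _⟩
  rw [L.Q_J]
  show i * e2 3 = 0
  rw [e2_facts.2.2.2.1, mul_zero]

theorem Q_cases {z : G} (hz : z ∈ zpowers (L.el e0)) : ∃ i : ZMod 3, z = L.el (i • e0) := by
  obtain ⟨n, hn⟩ := (isOfFinOrder_of_finite _).mem_powers_iff_mem_zpowers.2 hz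
  refine ⟨n, ?_⟩
  rw [L.el_smul, ZMod.val_natCast, ← pow_eq_pow_mod n (L.el_cube e0)]
  exact hn.symm

theorem Q2_nonabelian : ∃ x ∈ L.Q2, ∃ y ∈ L.Q2, ∀ i : ZMod 3, x * y * x⁻¹ * y⁻¹ ≠ L.el (i • e2) := by
  by_contra h
  push Not at h
  obtain ⟨hcard, hcent⟩ := L.tangent_core e2 e2_facts.2.2.2.1 (Or.inr e2_facts.2.2.2.2.1)
  have hcomm : ∀ x ∈ L.Q2, ∀ y ∈ L.Q2, x * y = y * x := by
    intro x hx y hy
    obtain ⟨i, hi⟩ := h x hx y hy
    have hxQ : x ∈ L.Q := (mem_inf.1 hx).1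
    have hyQ : y ∈ L.Q := (mem_inf.1 hy).1
    have hc : (⁅(⟨x, hxQ⟩ : L.Q), ⟨y, hyQ⟩⁆ : L.Q) ∈ center L.Q :=
      L.Q_extra.1.2.2 ▸ commutator_mem_commutator (mem_top _) (mem_top _)
    have hmem : x * y * x⁻¹ * y⁻¹ ∈ L.Q :=
      L.Q.mul_mem (L.Q.mul_mem (L.Q.mul_mem hxQ hyQ) (L.Q.inv_mem hxQ)) (L.Q.inv_mem hyQ)
    have hz := (L.Q_centre _ hmem).1 fun q hq => (congrArg Subtype.val (mem_center_iff.1 hc ⟨q, hq⟩)).symm
    obtain ⟨j, hj⟩ := L.Q_cases hz
    have h0 := e2_facts.2.2.2.2.2.2.2 j i (L.el_inj (hj.symm.trans hi))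
    rw [h0, zero_smul, L.el_zero] at hj
    calc x * y = x * y * x⁻¹ * y⁻¹ * (y * x) := by group
      _ = y * x := by rw [hj, one_mul]
  have hsurj : Function.Surjective fun p : ZMod 3 × ZMod 3 => (⟨L.el (p.1 • e0 + p.2 • e2), by
      refine mem_inf.2 ⟨?_, L.el_mem_CB _⟩
      rw [L.Q_J]
      show p.1 * e0 3 + p.2 * e2 3 = 0
      rw [e2_facts.2.2.2.1, mul_zero, add_zero, show e0 3 = 0 from rfl, mul_zero]⟩ : L.Q2) := fun x => by
    obtain ⟨i, j, e⟩ := (hcent x.1 x.2).1 (hcomm x.1 x.2)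
    exact ⟨(i, j), Subtype.ext e.symm⟩
  have := Nat.card_le_card_of_surjective _ hsurj
  rw [hcard, Nat.card_prod, Nat.card_zmod] at this
  omega

/-- The core of the centraliser of the central image. -/
theorem core_facts {f : ↥L.CW →* SL₂} (hf : Function.Surjective f)
    (hk : ∀ g : L.C12, f (L.prC g) = 1 ↔ (g : G) ∈ L.Q) :
    Cfsg.pCore 3 ↥L.CW = f.ker ∧ Nat.card f.ker = 27 ∧ (∀ r ∈ f.ker, r ^ 3 = 1) ∧
      Cfsg.IsExtraspecial 3 ↥f.ker := by
  classical
  haveI : Fact (Nat.Prime 3) := ⟨Nat.prime_three⟩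
  let q : ↥L.Q2 →* ↥f.ker := (L.prC.comp (Subgroup.inclusion L.Q2_le)).codRestrict _ fun x =>
    (hk _).2 (mem_inf.1 x.2).1
  have hq : Function.Surjective q := by
    rintro ⟨x, hx⟩
    obtain ⟨g, rfl⟩ := L.prC_surj x
    exact ⟨⟨g.1, mem_inf.2 ⟨(hk g).1 hx, g.2.2⟩⟩, Subtype.ext (congrArg L.prC (Subtype.ext rfl))⟩
  have hexp : ∀ r ∈ f.ker, r ^ 3 = 1 := by
    intro r hr
    obtain ⟨x, hx⟩ := hq ⟨r, hr⟩
    have h3 : q x ^ 3 = 1 := by
      rw [← map_pow, show x ^ 3 = 1 from Subtype.ext (L.Q_exp x.1 (mem_inf.1 x.2).1), map_one]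
    rw [hx] at h3
    exact congrArg Subtype.val h3
  have hqk : q.ker = zpowers ⟨L.el e2, by simpa using L.e2_mem_Q2 1⟩ := by
    ext x
    rw [MonoidHom.mem_ker, Subtype.ext_iff]
    show L.prC _ = 1 ↔ _
    rw [L.prC_eq_one]
    constructor
    · rintro ⟨i, hi⟩
      refine mem_zpowers_iff.2 ⟨(i.val : ℤ), Subtype.ext ?_⟩
      rw [zpow_natCast]
      show L.el e2 ^ i.val = x.1
      rw [← L.el_smul]; exact hi.symm
    · intro hx
      obtain ⟨n, hn⟩ := (isOfFinOrder_of_finite _).mem_powers_iff_mem_zpowers.2 hx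
      refine ⟨n, ?_⟩
      show x.1 = _
      rw [L.el_smul, ZMod.val_natCast, ← pow_eq_pow_mod n (L.el_cube e2)]
      exact (congrArg Subtype.val hn).symm
  have hcard : Nat.card f.ker = 27 := by
    have h1 := q.ker.card_mul_index
    rw [Subgroup.index_ker, MonoidHom.range_eq_top.2 hq, Subgroup.card_top, hqk, Nat.card_zpowers,
      show orderOf (⟨L.el e2, by simpa using L.e2_mem_Q2 1⟩ : L.Q2) = 3 by
        rw [← Subgroup.orderOf_coe]; exact L.el_order e2_facts.1,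
      (L.tangent_core e2 e2_facts.2.2.2.1 (Or.inr e2_facts.2.2.2.2.1)).1] at h1
    omega
  refine ⟨le_antisymm ?_ (le_sSup ⟨inferInstance, IsPGroup.of_card (n := 3) (by rw [hcard]; norm_num)⟩),
    hcard, hexp, ?_⟩
  · have hp : IsPGroup 3 ((Cfsg.pCore 3 ↥L.CW).map f) :=
      (Cfsg.Agent.FiniteGroup.pCore_isPGroup 3).map f
    haveI : (Cfsg.pCore 3 ↥L.CW).Normal := Cfsg.Agent.FiniteGroup.pCore_normal 3
    haveI : ((Cfsg.pCore 3 ↥L.CW).map f).Normal := Subgroup.Normal.map inferInstance f hf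
    rw [← Subgroup.map_eq_bot_iff]
    refine sl_core _ fun m hm => sl_three m ?_
    obtain ⟨k, hk'⟩ := hp ⟨m, hm⟩
    have hk2 : m ^ 3 ^ k = 1 := congrArg Subtype.val hk'
    have h24 : orderOf m ∣ 24 := by
      rw [← Cfsg.Agent.HeisSLThree.card_sl]; exact orderOf_dvd_natCard m
    obtain ⟨a, -, ha⟩ := (Nat.dvd_prime_pow Nat.prime_three).1 (orderOf_dvd_of_pow_eq_one hk2)
    refine orderOf_dvd_iff_pow_eq_one.1 ?_
    rw [ha] at h24 ⊢
    rcases a with _ | _ | a
    · norm_num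
    · norm_num
    · exfalso
      have := Nat.le_of_dvd (by norm_num) h24
      have h9 : 9 ∣ 24 := dvd_trans ⟨3 ^ a, by rw [pow_succ, pow_succ]; ring⟩ h24
      norm_num at h9
  · have hext : ∃ a b : f.ker, a * b ≠ b * a := by
      obtain ⟨x, hx, y, hy, hne⟩ := L.Q2_nonabelian
      refine ⟨q ⟨x, hx⟩, q ⟨y, hy⟩, fun e => ?_⟩
      rw [← map_mul, ← map_mul] at e
      have e' := congrArg Subtype.val e
      obtain ⟨i, hi⟩ := L.prC_eq_one.1 (show L.prC ((⟨x, L.Q2_le hx⟩ : L.C12) * ⟨y, L.Q2_le hy⟩ *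
          (⟨y, L.Q2_le hy⟩ * ⟨x, L.Q2_le hx⟩)⁻¹) = 1 by
        rw [map_mul, map_inv]
        exact mul_inv_eq_one.2 e')
      refine hne i ?_
      rw [← hi]
      show x * y * x⁻¹ * y⁻¹ = x * y * (y * x)⁻¹
      group
    haveI : Nontrivial f.ker := Finite.one_lt_card_iff_nontrivial.1 (by rw [hcard]; norm_num)
    have hA : IsPGroup 3 f.ker := IsPGroup.of_card (n := 3) (by rw [hcard]; norm_num)
    have hzc : Nat.card (center f.ker) = 3 ∧ ∀ a b : f.ker, ⁅a, b⁆ ∈ center f.ker := by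
      obtain ⟨i, hi⟩ := IsPGroup.iff_card.1 (hA.to_subgroup (center f.ker))
      have hd := (center f.ker).card_subgroup_dvd_card
      rw [hcard, hi, show (27 : ℕ) = 3 ^ 3 from rfl] at hd
      have hi3 := (Nat.pow_dvd_pow_iff_le_right (by norm_num : 1 < 3)).1 hd
      have hi0 : i ≠ 0 := fun e => hA.bot_lt_center.ne' (card_eq_one.1 (by rw [hi, e, pow_zero]))
      obtain ⟨a, b, hab⟩ := hext
      have hprod := (center f.ker).card_mul_index
      rw [hi, hcard, index_eq_card] at hprod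
      have hi1 : i = 1 := by
        rcases (by omega : i = 1 ∨ i = 2 ∨ i = 3) with h | h | h
        · exact h
        · exfalso
          subst h
          haveI : IsCyclic (f.ker ⧸ center f.ker) := isCyclic_of_prime_card (p := 3) (by omega)
          exact hab (commutative_of_cyclic_center_quotient (QuotientGroup.mk' (center f.ker))
            (by rw [QuotientGroup.ker_mk']) a b)
        · exfalso
          subst h
          have : center f.ker = ⊤ := eq_top_of_card_eq _ (by rw [hi, hcard]; norm_num)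
          exact hab (mem_center_iff.1 (this ▸ mem_top b) a)
      subst hi1
      refine ⟨by rw [hi, pow_one], fun x y => ?_⟩
      have hq2 : Nat.card (f.ker ⧸ center f.ker) = 3 ^ 2 := by omega
      letI := IsPGroup.commGroupOfCardEqPrimeSq hq2
      rw [← QuotientGroup.eq_one_iff]
      show QuotientGroup.mk' (center f.ker) ⁅x, y⁆ = 1
      rw [map_commutatorElement, commutatorElement_eq_one_iff_mul_comm]
      exact mul_comm _ _
    exact FusionSys.isExtraspecial_of_card_cube hA (by rw [hcard]; norm_num) hzc.1 hzc.2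

/-- The image of the abelian group. -/
def JB : Subgroup L.XB where
  carrier := Set.range L.bar
  one_mem' := ⟨0, by rw [bar]; exact L.pr_eq_one.2 ⟨0, by rw [zero_smul]⟩⟩
  mul_mem' := by rintro _ _ ⟨u, rfl⟩ ⟨v, rfl⟩; exact ⟨u + v, L.bar_add u v⟩
  inv_mem' := by
    rintro _ ⟨u, rfl⟩
    refine ⟨-u, eq_inv_of_mul_eq_one_left ?_⟩
    rw [← L.bar_add, neg_add_cancel, bar]
    exact L.pr_eq_one.2 ⟨0, by rw [zero_smul]⟩

theorem card_JB : Nat.card L.JB = 27 := by
  have hb : Function.Bijective fun v : {v : V4 // v 2 = 0} => (⟨L.bar v.1, v.1, rfl⟩ : L.JB) := by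
    constructor
    · intro u v h
      obtain ⟨i, hi⟩ := L.bar_eq.1 (congrArg Subtype.val h)
      have h2 : i = 0 := by
        have := congrFun hi 2
        rw [u.2, Pi.add_apply, v.2, Pi.smul_apply, smul_eq_mul, zero_add] at this
        have h1 : ∀ i : ZMod 3, i * e2 2 = 0 → i = 0 := by decide +kernel
        exact h1 i this.symm
      rw [h2, zero_smul, add_zero] at hi
      exact Subtype.ext hi
    · rintro ⟨_, v, rfl⟩
      have h2 : ∀ v : V4, ((v + (-v 2) • e2 : V4)) 2 = 0 := by decide +kernel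
      exact ⟨⟨v + (-v 2) • e2, h2 v⟩, Subtype.ext (L.bar_eq.2 ⟨-v 2, rfl⟩)⟩
  rw [← Nat.card_eq_of_bijective _ hb, Nat.card_eq_fintype_card]
  decide +kernel

/-- No signaliser. -/
theorem sigB (K : Subgroup L.XB) (hK : (Nat.card K).Coprime 3)
    (hinv : ∀ j ∈ L.JB, K.map (MulAut.conj j).toMonoidHom = K) : K = ⊥ := by
  classical
  set P := K.comap L.pr with hP
  have hNP : L.NB ≤ P := fun x hx => by
    rw [hP, mem_comap, show L.pr x = 1 from (QuotientGroup.eq_one_iff _).2 hx]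
    exact one_mem _
  set N := L.NB.subgroupOf P with hN
  haveI : N.Normal := Subgroup.normal_subgroupOf
  have hNc : Nat.card N = 3 := by
    rw [hN, Nat.card_congr (Subgroup.subgroupOfEquivOfLe hNP).toEquiv, Nat.card_zpowers, ← Subgroup.orderOf_coe]
    exact L.el_order e2_facts.1
  have hidx : N.index = Nat.card K := by
    let φ : P →* K := (L.pr.comp P.subtype).codRestrict _ fun x => x.2
    have hφ : Function.Surjective φ := by
      rintro ⟨k, hk⟩
      obtain ⟨g, rfl⟩ := QuotientGroup.mk'_surjective L.NB k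
      exact ⟨⟨g, hk⟩, rfl⟩
    have hker : φ.ker = N := by
      ext x
      rw [MonoidHom.mem_ker, Subtype.ext_iff, hN, mem_subgroupOf]
      exact QuotientGroup.eq_one_iff _
    rw [← hker, Subgroup.index_ker, MonoidHom.range_eq_top.2 hφ, Subgroup.card_top]
  obtain ⟨H, hH⟩ := exists_right_complement'_of_coprime (N := N) (by rw [hNc, hidx]; exact hK.symm)
  have hHc : Nat.card H = Nat.card K := by
    have h1 := hH.card_mul
    have h2 := N.card_mul_index
    rw [hidx] at h2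
    rw [hNc] at h1 h2
    omega
  have hmem : ∀ x : P, x ∈ H ↔ x ^ Nat.card K = 1 := by
    intro x
    refine ⟨fun hx => ?_, fun hx => ?_⟩
    · rw [← hHc]; exact congrArg Subtype.val (pow_card_eq_one' (x := (⟨x, hx⟩ : H)))
    · obtain ⟨⟨⟨a, ha⟩, ⟨h, hh⟩⟩, rfl⟩ := hH.2 x
      have hca : Commute a h := by
        refine Subtype.ext (Subtype.ext ?_)
        obtain ⟨i, hi⟩ := L.pr_eq_one.1 ((QuotientGroup.eq_one_iff _).2 (mem_subgroupOf.1 ha) :)
        show ((a : L.CB) : G) * ((h : L.CB) : G) = ((h : L.CB) : G) * ((a : L.CB) : G)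
        rw [hi, L.el_smul]
        exact (Commute.pow_right (show Commute ((h : L.CB) : G) (L.el e2) from
          mem_centralizer_singleton_iff.1 (h : L.CB).2) _).eq.symm
      have h1 : a ^ Nat.card K = 1 := by
        have e : (⟨h, hh⟩ : H) ^ Nat.card K = 1 := by rw [← hHc]; exact pow_card_eq_one'
        have e' : h ^ Nat.card K = 1 := congrArg Subtype.val e
        rwa [hca.mul_pow, e', mul_one] at hx
      have ha3 : a ^ 3 = 1 := by
        have e : (⟨a, ha⟩ : N) ^ Nat.card N = 1 := pow_card_eq_one'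
        rw [hNc] at e
        exact congrArg Subtype.val e
      have : a = 1 := orderOf_eq_one_iff.1 (Nat.eq_one_of_dvd_coprimes hK
        (orderOf_dvd_of_pow_eq_one h1) (orderOf_dvd_of_pow_eq_one ha3))
      show a * h ∈ H
      rwa [this, one_mul]
  set H' : Subgroup G := (H.map P.subtype).map L.CB.subtype with hH'
  have hc' : Nat.card H' = Nat.card K := by
    rw [hH', Subgroup.card_map_of_injective (Subgroup.subtype_injective _),
      Subgroup.card_map_of_injective (Subgroup.subtype_injective _), hHc]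
  have h0 : H' = ⊥ := L.no_sig H' (by rw [hc']; exact hK) (by
    rintro v _ ⟨_, ⟨h, hh, rfl⟩, rfl⟩
    set j : L.CB := ⟨L.el v, L.el_mem_CB v⟩ with hj
    have hjP : j * (h : L.CB) * j⁻¹ ∈ P := by
      refine mem_comap.2 ?_
      rw [map_mul, map_mul, map_inv]
      have h2 : MulAut.conj (L.bar v) (L.pr h) ∈ K.map (MulAut.conj (L.bar v)).toMonoidHom :=
        ⟨_, h.2, rfl⟩
      rw [hinv _ ⟨v, rfl⟩, MulAut.conj_apply] at h2
      exact h2
    refine ⟨j * h * j⁻¹, ⟨⟨_, hjP⟩, (hmem _).2 (Subtype.ext ?_), rfl⟩, rfl⟩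
    show (j * (h : L.CB) * j⁻¹) ^ Nat.card K = 1
    rw [conj_pow, show (h : L.CB) ^ Nat.card K = 1 from congrArg Subtype.val ((hmem h).1 hh), mul_one,
      mul_inv_cancel])
  rw [h0, Subgroup.card_bot] at hc'
  exact Subgroup.card_eq_one.1 hc'.symm

/-- Coordinates at the central image. -/
theorem exists_elB : ∃ el : ℕ → L.XB, Hayden.Cfg el ∧ (el 9 = L.bar e0 ∨ el 9 = (L.bar e0)⁻¹) ∧
    ∀ u, ∃ v < 27, el (Hayden.vi v) = L.bar u := by
  obtain ⟨f, hf, hk⟩ := L.exists_fbar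
  obtain ⟨hcore, hcard, hexp, hext⟩ := L.core_facts hf hk
  have hJ : L.JB ≤ L.CW := by
    rintro _ ⟨v, rfl⟩
    exact mem_centralizer_singleton_iff.2 (L.bar_comm v e0).eq
  obtain ⟨el, C, h9, hV⟩ := Quot.exists_cfg_at (L.bar e0) L.orderOf_bar_e0 L.CW rfl
    (by rw [hcore]; exact hext) (by rw [hcore]; exact hcard) (by rw [hcore]; exact hexp)
    ((QuotientGroup.quotientMulEquivOfEq hcore).trans (QuotientGroup.quotientKerEquivOfSurjective f hf))
    L.JB hJ ⟨⟨fun a b => Subtype.ext (by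
      obtain ⟨u, hu⟩ := a.2
      obtain ⟨v, hv⟩ := b.2
      show (a : L.XB) * b = b * a
      rw [← hu, ← hv, (L.bar_comm u v).eq])⟩⟩
    (by rintro _ ⟨u, rfl⟩; exact L.bar_cube u) L.card_JB (fun K hK h => L.sigB K hK h)
  exact ⟨el, C, h9, fun u => hV _ ⟨u, rfl⟩⟩

end Loc

end Cfsg.Agent.Co2Three
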