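import Cfsg.Agent.Lib.Co2Three.Quot.Bar
import Cfsg.Agent.Lib.S3342Id.BigCore
import Cfsg.Agent.Lib.S3342Id.BigTop
import Cfsg.Agent.Lib.S3342Id.LocalCent

/-!
The quotient of the normaliser is the symplectic group in six dimensions over the field of two elements, and the
centraliser of an interior point lies in the normaliser.
-/

set_option autoImplicit false
set_option maxRecDepth 20000
set_option synthInstance.maxSize 10000
set_option linter.style.haveILetI false

namespace Cfsg.Agent.Co2Three.Quot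

open Subgroup
open Cfsg.Agent.Hayden Cfsg.Agent.Hayden.Cfg
open Cfsg.Agent.S3342Id

/-- Coordinates can be twisted to a standard orbit without moving the abelian subgroup. -/
theorem exists_norm_same {H : Type*} [Group H] [Finite H] {el : ℕ → H} (C : Cfg el) :
    ∃ el' : ℕ → H, ∃ C' : Cfg el', el' 9 = el 9 ∧ (∀ v < 27, ∃ w < 27, el' (vi w) = el (vi v)) ∧
    ((∀ v < 27, C'.Orb v ↔ v = 1) ∨ (∀ v < 27, C'.Orb v ↔ v = 1 ∨ v = 2) ∨
      (∀ v < 27, C'.Orb v ↔ v ∈ O4) ∨ (∀ v < 27, C'.Orb v ↔ v ∈ O8)) := by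
  obtain ⟨bm, hbm, hO⟩ := C.exists_bits
  rcases chk_norm.2.2 bm hbm with rfl | rfl | ⟨c, hc, hcO⟩
  · exact ⟨el, C, rfl, fun v hv => ⟨v, hv, rfl⟩, Or.inl fun v hv => (hO v hv).trans (chk_norm.1 v hv)⟩
  · exact ⟨el, C, rfl, fun v hv => ⟨v, hv, rfl⟩, Or.inr (Or.inl fun v hv => (hO v hv).trans (chk_norm.2.1 v hv))⟩
  · obtain ⟨C', h9⟩ := C.twist c hc
    have hc' : (3 - c) % 3 < 3 := Nat.mod_lt _ (by norm_num)
    have hO' : ∀ v < 27, C'.Orb v ↔ sv c v ∈ cand bm.1 bm.2 := fun v hv => by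
      rw [← hO _ (chk_sv c hc v hv).1]
      show (∃ g : H, g * el (sh c 9) * g⁻¹ = el (sh c (vi v))) ↔ _
      rw [(chk_sh_nine c hc).1, (chk_sv c hc v hv).2.1]
      rfl
    refine ⟨_, C', h9, fun v hv => ⟨sv ((3 - c) % 3) v, (chk_sv _ hc' v hv).1, ?_⟩, ?_⟩
    · show el (sh c (vi (sv ((3 - c) % 3) v))) = el (vi v)
      rw [(chk_sv c hc _ (chk_sv _ hc' v hv).1).2.1]
      congr 2
      interval_cases c <;> exact (chk_sv _ (by norm_num) v hv).2.2
    rcases hcO with h | h
    · exact Or.inr (Or.inr (Or.inl fun v hv => (hO' v hv).trans (h v hv)))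
    · exact Or.inr (Or.inr (Or.inr fun v hv => (hO' v hv).trans (h v hv)))

/-- Maps of the plane preserving the orbit, moving every other point to one of two. -/
def moves : List (ℕ × ℕ × ℕ) := [(1, 3, 9), (1, 4, 14), (1, 5, 17), (2, 3, 18), (2, 4, 25), (2, 5, 22),
  (14, 4, 1), (14, 8, 1), (14, 10, 22), (14, 15, 18), (14, 20, 22), (14, 21, 18)]

theorem moves_ok : ∀ A ∈ moves, A.1 < 27 ∧ A.2.1 < 27 ∧ A.2.2 < 27 ∧ sing A = false ∧
    ∀ v ∈ O8, app A v ∈ O8 := by decide +kernel

theorem moves_spec : ∀ v < 27, v = 0 ∨ v ∈ O8 ∨ ∃ A ∈ moves, app A v = 10 ∨ app A v = 19 := by decide +kernel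

variable {G : Type*} [Group G] [Finite G] {L : Loc G} {W : Subgroup G} (M : Mid L W)

/-- The coordinates on the quotient with the points of the plane. -/
structure Frame (L : Loc G) (W : Subgroup G) where
  /-- the coordinates -/
  el : ℕ → Gb L.t W
  C : Cfg el
  hO : ∀ v < 27, C.Orb v ↔ v ∈ O8
  /-- the point of the plane at an index -/
  pt : ℕ → V4
  pt_plane : ∀ v < 27, pt v 1 = 0
  pt_el : ∀ v < 27, el (vi v) = elb L W (pt v)
  pt_surj : ∀ u : V4, u 1 = 0 → ∃ v < 27, pt v = u
  /-- the orbit is the set of singular points -/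
  sing : ∀ v < 27, v ∈ O8 ↔ pt v ≠ 0 ∧ qf (pt v) = 0

include M

theorem elb_neg {u : V4} (hu : u 1 = 0) : elb L W (-u) = (elb L W u)⁻¹ :=
  eq_inv_of_mul_eq_one_left (by
    rw [← elb_add M (show (-u) 1 = 0 by simp [hu]) hu, neg_add_cancel, elb_zero M])

/-- An element of the normaliser moving the points as given. -/
theorem bar_conj {u v : V4} (hu : u 1 = 0) (hv : v 1 = 0) {g : G} (hg : g ∈ NW L.t W)
    (h : g * L.el u * g⁻¹ = L.el v) : bar L.t W ⟨g, hg⟩ * elb L W u * (bar L.t W ⟨g, hg⟩)⁻¹ = elb L W v := by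
  rw [elb_eq M hu, elb_eq M hv, ← map_inv, ← map_mul, ← map_mul]
  exact congrArg _ (Subtype.ext h)

theorem exists_frame : Nonempty (Frame L W) := by
  classical
  obtain ⟨el₀, C₀, h9₀, hJ⟩ := exists_cfg M
  obtain ⟨el, C, h9, hsame, hcases⟩ := exists_norm_same C₀
  rw [← h9] at h9₀
  have hex : ∀ u : {u : V4 // u 1 = 0}, ∃ v < 27, el (vi v) = elb L W u := fun u => by
    obtain ⟨v, hv, hve⟩ := hJ u u.2
    obtain ⟨w, hw, hwe⟩ := hsame v hv
    exact ⟨w, hw, hwe.trans hve⟩
  choose idx hlt hidx using hex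
  have hbij : Function.Bijective fun u => (⟨idx u, hlt u⟩ : Fin 27) :=
    (Nat.bijective_iff_injective_and_card _).2 ⟨fun u v h => Subtype.ext (elb_inj M u.2 v.2 (by
      rw [← hidx, ← hidx, show idx u = idx v from congrArg Fin.val h])), by rw [card_plane, Nat.card_fin]⟩
  choose inv hinv using hbij.2
  let pt : ℕ → V4 := fun v => if h : v < 27 then (inv ⟨v, h⟩ : V4) else 0
  have hpl : ∀ v < 27, pt v 1 = 0 := fun v hv => by simp only [pt, dif_pos hv]; exact (inv ⟨v, hv⟩).2
  have hpe : ∀ v < 27, el (vi v) = elb L W (pt v) := fun v hv => by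
    simp only [pt, dif_pos hv]
    rw [← hidx, show idx (inv ⟨v, hv⟩) = v from congrArg Fin.val (hinv ⟨v, hv⟩)]
  have hps : ∀ u : V4, u 1 = 0 → ∃ v < 27, pt v = u := fun u hu =>
    ⟨idx ⟨u, hu⟩, hlt _, elb_inj M (hpl _ (hlt _)) hu (by rw [← hpe _ (hlt _), hidx])⟩
  -- the orbit is the set of singular points
  have horb : ∀ v < 27, C.Orb v ↔ pt v ≠ 0 ∧ qf (pt v) = 0 := by
    intro v hv
    obtain ⟨s, hs, hs9⟩ : ∃ s : V4, (s = e0 ∨ s = -e0) ∧ el 9 = elb L W s := h9₀.elim
      (fun h => ⟨e0, Or.inl rfl, h⟩) (fun h => ⟨-e0, Or.inr rfl, h⟩)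
    have hs1 : s 1 = 0 := by rcases hs with rfl | rfl <;> decide
    have hs0 : s ≠ 0 := by rcases hs with rfl | rfl <;> decide
    obtain ⟨f, hf⟩ : ∃ f : G, f * L.el e0 * f⁻¹ = L.el s :=
      (L.fused s hs0).2 (by rcases hs with rfl | rfl <;> decide)
    constructor
    · rintro ⟨g, hg⟩
      rw [hpe v hv, hs9] at hg
      obtain ⟨x, rfl⟩ := QuotientGroup.mk'_surjective _ g
      have h0 : pt v ≠ 0 := fun h => by
        rw [h, elb_zero M, conj_eq_one_iff, ← elb_zero M] at hg
        exact hs0 (elb_inj M hs1 rfl hg)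
      obtain ⟨w, -, hw⟩ := conj_lift M hs1 (hpl v hv) hs0 x hg
      refine ⟨h0, (L.fused _ h0).1 ⟨w * x * f, ?_⟩⟩
      rw [← hw, ← hf]
      group
    · rintro ⟨h0, hq⟩
      obtain ⟨r, hr, hqr, g, hg, hge, -⟩ := classes M (hpl v hv) h0
      rw [hq] at hqr
      have hr0 : r = e0 := by
        simp only [List.mem_cons, List.not_mem_nil, or_false] at hr
        rcases hr with rfl | rfl | rfl
        · rfl
        · exact absurd hqr (by decide)
        · exact absurd hqr (by decide)
      subst hr0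
      have h := bar_conj M rfl (hpl v hv) hg hge
      rcases hs with rfl | rfl
      · exact ⟨_, by rw [hpe v hv, hs9, h]⟩
      · obtain ⟨n, hn, hne⟩ := exists_inverting M
        have hn' := bar_conj M (show (-e0) 1 = 0 from hs1) rfl hn (show n * L.el (-e0) * n⁻¹ = L.el e0 by
          rw [hne, el_neg, inv_inv])
        refine ⟨bar L.t W ⟨g, hg⟩ * bar L.t W ⟨n, hn⟩, ?_⟩
        rw [hpe v hv, ← h, ← hn', hs9]
        group
  have h2 : C.Orb 2 := by
    have h1 := (horb 1 (by norm_num)).1 C.orb_one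
    obtain ⟨v, hv, hve⟩ := hps (-pt 1) (by simp [hpl 1 (by norm_num)])
    have hv2 : v = 2 := C.vi_inj hv (by norm_num) (by
      rw [hpe v hv, hve, elb_neg M (hpl 1 (by norm_num)), ← hpe 1 (by norm_num), ← C.orb_inv (by norm_num),
        show vneg 1 = 2 by decide])
    subst hv2
    refine (horb 2 hv).2 ⟨by rw [hve, neg_ne_zero]; exact h1.1, ?_⟩
    rw [hve, (show ∀ u : V4, qf (-u) = qf u from fun u => by simp [qf]) _]
    exact h1.2
  have hO : ∀ v < 27, C.Orb v ↔ v ∈ O8 := by
    rcases hcases with h | h | h | h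
    · exact absurd ((h 2 (by norm_num)).1 h2) (by norm_num)
    · exfalso
      have key : ∀ u : V4, u 1 = 0 → u ≠ 0 → qf u = 0 → u = pt 1 ∨ u = pt 2 := fun u hu h0 hq => by
        obtain ⟨v, hv, rfl⟩ := hps u hu
        rcases (h v hv).1 ((horb v hv).2 ⟨h0, hq⟩) with rfl | rfl
        · exact Or.inl rfl
        · exact Or.inr rfl
      rcases key e0 rfl (by decide) (by decide) with a | a <;>
        rcases key (-e0) (by decide) (by decide) (by decide) with b | b <;>
        rcases key e3 rfl (by decide) (by decide) with c | c <;>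
        first
          | exact absurd (a.trans b.symm) (by decide)
          | exact absurd (a.trans c.symm) (by decide)
          | exact absurd (b.trans c.symm) (by decide)
    · exact absurd ((h 2 (by norm_num)).1 h2) (by decide)
    · exact h
  exact ⟨⟨el, C, hO, pt, hpl, hpe, hps, fun v hv => (hO v hv).symm.trans (horb v hv)⟩⟩

/-- Some automorphism of the configuration takes the interior point to one of two indices. -/
theorem exists_move (F : Frame L W) : ∃ n ∈ normalizer (F.C.VJ : Set (Gb L.t W)), ∃ k, (k = 10 ∨ k = 19) ∧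
    n * elb L W ci * n⁻¹ = F.el (vi k) := by
  obtain ⟨v, hv, hve⟩ := F.pt_surj ci rfl
  rcases moves_spec v hv with rfl | hv8 | ⟨A, hA, hk⟩
  · have h := F.pt_el 0 hv
    rw [hve, show vi 0 = 0 by decide +kernel, F.C.el_zero, ← elb_zero M] at h
    exact absurd (elb_inj M rfl rfl h.symm) (by decide)
  · have h := ((F.sing v hv).1 hv8).2
    rw [hve] at h
    exact absurd h (by decide)
  · obtain ⟨b1, b2, b3, hs, hp⟩ := moves_ok A hA
    obtain ⟨n, hn⟩ := Real.exists_act F.C (F.C.real_of_pres (by simp) F.hO b1 b2 b3 hs hp)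
    refine ⟨n, F.C.mem_norm fun u hu => ⟨_, app_lt _ _, hn u hu⟩, app A v, hk, ?_⟩
    rw [← hve, ← F.pt_el v hv, hn v hv]

omit M in
theorem t_ne_one : L.t ≠ 1 := fun h => by
  have := L.t_act e1
  rw [h, inv_one, mul_one, one_mul] at this
  exact absurd (L.el_inj this) (by decide)

/-- **The quotient is the symplectic group, and the centraliser of the interior point normalises `W`.** -/
theorem six : Nonempty (Gb L.t W ≃* Matrix.symplecticGroup (Fin 3) (ZMod 2)) ∧
    centralizer ({L.el ci} : Set G) ⊓ centralizer {L.t} ≤ normalizer (W : Set G) := by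
  classical
  obtain ⟨F⟩ := exists_frame M
  obtain ⟨el, C, hO, pt, hpl, hpe, hps, hsing⟩ := F
  set F : Frame L W := ⟨el, C, hO, pt, hpl, hpe, hps, hsing⟩
  obtain ⟨s, S⟩ := C.exists_sw (by simp : O8 ∈ [O4, O8]) hO
  obtain ⟨m, N⟩ := C.exists_neg hO S
  have h10 : cg el 10 ≤ normalizer (C.VJ : Set (Gb L.t W)) := LocalCent.cent_10_le_O8 C hO
  obtain ⟨n, hn, k, hk, hnk⟩ := exists_move M F
  replace hnk : n * elb L W ci * n⁻¹ = el (vi k) := hnk
  replace hn : n ∈ normalizer (C.VJ : Set (Gb L.t W)) := hn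
  -- the interior point is not of the kind whose centraliser normalises the plane
  have hmove : ¬ cg el k ≤ normalizer (C.VJ : Set (Gb L.t W)) := by
    intro hle
    obtain ⟨y, hy, hyn, v, hv, hvw⟩ := M.mover
    have hyM : y ∈ NW L.t W := ⟨hyn, hy.2⟩
    have hyc : y * L.el ci * y⁻¹ = L.el ci := mul_inv_eq_iff_eq_mul.2 (mem_centralizer_singleton_iff.1 hy.1)
    have hyb := bar_conj M (u := ci) (v := ci) rfl rfl hyM hyc
    set yb := bar L.t W ⟨y, hyM⟩ with hybd
    have hyVJ : yb ∈ normalizer (C.VJ : Set (Gb L.t W)) := by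
      have h1 : n * yb * n⁻¹ ∈ cg el k := by
        refine mem_centralizer_singleton_iff.2 ?_
        rw [← hnk]
        exact (show Commute (n * yb * n⁻¹) (n * elb L W ci * n⁻¹) from
          (Commute.conj_iff n).2 (mul_inv_eq_iff_eq_mul.1 hyb)).eq
      have := mul_mem (mul_mem (inv_mem hn) (hle h1)) hn
      rwa [show n⁻¹ * (n * yb * n⁻¹) * n = yb by group] at this
    obtain ⟨v', hv', rfl⟩ := hps v hv
    obtain ⟨w', hw', hwe⟩ := (mem_normalizer_iff.1 hyVJ (el (vi v'))).1 ⟨v', hv', rfl⟩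
    rw [hpe w' hw', hpe v' hv', elb_eq M (hpl w' hw'), elb_eq M (hpl v' hv'), hybd, ← map_inv, ← map_mul,
      ← map_mul, bar_eq] at hwe
    have hc : Commute ((L.el (pt w'))⁻¹ * (y * L.el (pt v') * y⁻¹)) (L.el ci) := by
      have h2 := (Commute.conj_iff y).2 (el_comm L (pt v') ci)
      rw [hyc] at h2
      exact ((el_comm L (pt w') ci).inv_left).mul_left h2
    rcases M.fix_interior _ hwe hc with h | h
    · exact hvw (pt w') (inv_mul_eq_one.1 h).symm
    · rw [inv_mul_eq_iff_eq_mul] at h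
      refine t_ne_one (L := L) ?_
      have h' : y * L.el (pt v') * y⁻¹ = L.el (pt w') * L.t := h
      have h3 : (L.el (pt w') * L.t) ^ 3 = 1 := by rw [← h', conj_pow, el_pow3, mul_one, mul_inv_cancel]
      rwa [(comm_t L (hpl w' hw')).mul_pow, el_pow3, one_mul, pow_three', L.t_sq, one_mul] at h3
  have hk19 : k = 19 := hk.resolve_left fun e => hmove (e ▸ h10)
  subst hk19
  rcases LocalCent.cent_63_O8 C hO with h19 | ⟨K, comm, cov, ⟨ψ⟩⟩
  · exact absurd h19 hmove
  have hp : ∀ g, Commute g (el (vi 10)) → g ∈ normalizer (C.VJ : Set (Gb L.t W)) := fun g hg =>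
    h10 (mem_centralizer_singleton_iff.2 hg.eq)
  obtain ⟨E, hE, hE2, hE4, hE8, hgap⟩ := Seven.exists_core C S N comm cov ψ
  obtain ⟨hcomm, heq4, hcz⟩ := S3342CentZ.exists_facts C S N hO hp hE hE2 hE4 hgap
  have h63 : vi 19 = 63 := by decide +kernel
  have Lc : Seven.Loc el s K E := by
    refine ⟨comm, cov, fun e he => ⟨?_, (hE.mem e he).1⟩, hE8, fun g hgj hgz e he => ?_,
      fun k hk hk2 e he => heq4 e he k hk hk2⟩
    · have := (hE.mem e he).2
      rwa [h63] at this
    · exact hE.nor g hgz (by rwa [h63]) e he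
  have hiso := Closure.nonempty_sp62_big C S N hO hcomm Lc ψ
    (hcz.trans ((Nat.mul_le_mul_left 1152 hE4).trans (by norm_num))) h10 (F := ZMod 2) (ZMod.card 2)
  refine ⟨hiso, ?_⟩
  -- the centraliser of the element with complement `K`
  have hcg : 2160 ≤ Nat.card (cg el 19) := by
    have h3 : el 63 ^ 3 = 1 := by
      rw [pow_three', C.mul 63 (by norm_num) 63 (by norm_num), C.mul _ (T_lt (by norm_num) (by norm_num)) 63 (by norm_num),
        show T (T 63 63) 63 = 0 by decide +kernel, C.el_zero]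
    have jK : el 63 ∉ K := fun hj => by
      have h1 : ψ ⟨el 63, hj⟩ = 1 := Seven.perm_center fun τ => by
        obtain ⟨g, rfl⟩ := ψ.surjective τ
        exact Commute.map (show Commute (⟨el 63, hj⟩ : K) g from Subtype.ext (comm g g.2).eq.symm) ψ
      have h2 : el 63 = el 0 := by
        rw [C.el_zero]; exact congrArg Subtype.val (ψ.injective (h1.trans (map_one ψ).symm))
      exact absurd (C.inj 63 (by norm_num) 0 (by norm_num) h2) (by norm_num)
    have hpow : ∀ i < 3, el 63 ^ i ∈ K → i = 0 := fun i hi hm => by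
      rcases i with _ | _ | i
      · rfl
      · exact absurd (pow_one (el 63) ▸ hm) jK
      · obtain rfl : i = 0 := by omega
        refine absurd ?_ jK
        have := inv_mem hm
        rwa [inv_eq_of_mul_eq_one_right (show el 63 ^ (0 + 1 + 1) * el 63 = 1 by rw [← h3, ← pow_succ])] at this
    have hin : ∀ (i : Fin 3) (x : K), (x : Gb L.t W) * el 63 ^ (i : ℕ) ∈ cg el 19 := fun i x =>
      mem_centralizer_singleton_iff.2 (by
        rw [h63]
        exact ((comm x x.2).mul_left ((Commute.refl (el 63)).pow_left i)).eq)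
    have := Nat.card_le_card_of_injective (fun p : Fin 3 × K => (⟨_, hin p.1 p.2⟩ : cg el 19)) fun p q h => by
      have h' : (p.2 : Gb L.t W) * el 63 ^ (p.1 : ℕ) = q.2 * el 63 ^ (q.1 : ℕ) := congrArg Subtype.val h
      have hpq : p.1 = q.1 := by
        have key : ∀ a b : ℕ, a < 3 → b < 3 → ∀ x y : K, a ≤ b →
            (x : Gb L.t W) * el 63 ^ a = y * el 63 ^ b → a = b := fun a b _ hb x y hab e => by
          have hm : el 63 ^ (b - a) ∈ K := by
            rw [show b = (b - a) + a by omega, pow_add, ← mul_assoc] at e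
            rw [show el 63 ^ (b - a) = (y : Gb L.t W)⁻¹ * x by rw [mul_right_cancel e]; group]
            exact mul_mem (inv_mem y.2) x.2
          have := hpow _ (by omega) hm
          omega
        rcases le_total (p.1 : ℕ) q.1 with hab | hab
        · exact Fin.ext (key _ _ p.1.2 q.1.2 p.2 q.2 hab h')
        · exact Fin.ext (key _ _ q.1.2 p.1.2 q.2 p.2 hab h'.symm).symm
      rw [hpq] at h'
      exact Prod.ext hpq (Subtype.ext (mul_right_cancel h'))
    rwa [Nat.card_prod, Nat.card_fin, Nat.card_congr ψ.toEquiv, Nat.card_perm, Nat.card_fin] at this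
  set E' := centralizer ({L.el ci} : Set G) ⊓ NW L.t W with hE'
  set D' := centralizer ({elb L W ci} : Set (Gb L.t W)) with hD'
  have hci : ci ≠ 0 := by decide
  have hsec : ∀ g : D', ∃ x : ↥(NW L.t W), (x : G) ∈ E' ∧ bar L.t W x = g := fun g => by
    obtain ⟨x, hx, hxe⟩ := cent_lift M (u := ci) rfl hci (mem_centralizer_singleton_iff.1 g.2)
    exact ⟨x, ⟨mem_centralizer_singleton_iff.2 hx.eq, x.2⟩, hxe⟩
  choose sec hsecm hsece using hsec
  have htW : L.t ∈ W := M.P_le L.t_mem
  have htE : L.t ∈ E' := ⟨mem_centralizer_singleton_iff.2 (comm_t L (v := ci) rfl).symm.eq, W_le M htW⟩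
  have h2D : 2 * Nat.card D' ≤ Nat.card E' := by
    have := Nat.card_le_card_of_injective (fun p : Bool × D' =>
      (⟨cond p.1 L.t 1 * sec p.2, mul_mem (by cases p.1 <;> simp [htE]) (hsecm p.2)⟩ : E')) fun p q h => by
      have h' : cond p.1 L.t 1 * (sec p.2 : G) = cond q.1 L.t 1 * sec q.2 := congrArg Subtype.val h
      have hW : ∀ b : Bool, cond b L.t 1 ∈ W := fun b => by cases b <;> simp [htW]
      have hg : p.2 = q.2 := Subtype.ext (by
        rw [← hsece, ← hsece]
        have e : (⟨_, W_le M (hW p.1)⟩ : ↥(NW L.t W)) * sec p.2 = ⟨_, W_le M (hW q.1)⟩ * sec q.2 := Subtype.ext h'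
        have := congrArg (bar L.t W) e
        rwa [map_mul, map_mul, (bar_eq_one ⟨_, W_le M (hW p.1)⟩).2 (hW p.1),
          (bar_eq_one ⟨_, W_le M (hW q.1)⟩).2 (hW q.1), one_mul, one_mul] at this)
      rw [hg] at h'
      refine Prod.ext ?_ hg
      have hc := mul_right_cancel h'
      revert hc
      cases p.1 <;> cases q.1 <;> simp [t_ne_one (L := L), (t_ne_one (L := L)).symm]
    simpa [Nat.card_prod] using this
  have hD : 2160 ≤ Nat.card D' := hcg.trans (Nat.card_le_card_of_injective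
    (fun x : cg el 19 => (⟨n⁻¹ * x * n, mem_centralizer_singleton_iff.2 (by
      have h := (Commute.conj_iff n⁻¹).2
        (show Commute (x : Gb L.t W) (el (vi 19)) from mem_centralizer_singleton_iff.1 x.2)
      rw [← hnk, inv_inv, show n⁻¹ * (n * elb L W ci * n⁻¹) * n = elb L W ci by group] at h
      exact h.eq)⟩ : D')) fun x y h => Subtype.ext (mul_left_cancel (mul_right_cancel (congrArg Subtype.val h))))
  have hle : E' ≤ centralizer ({L.el ci} : Set G) ⊓ centralizer {L.t} := fun x hx => ⟨hx.1, hx.2.2⟩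
  rw [← eq_of_le_of_card_ge hle (M.card_interior.trans ((Nat.mul_le_mul_left 2 hD).trans h2D))]
  exact fun x hx => hx.2.1

end Cfsg.Agent.Co2Three.Quot
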